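import Groth.Agent.Fitt.K360.Minors
import Mathlib.RingTheory.LocalRing.Module
import Mathlib.RingTheory.Support
import Mathlib.RingTheory.Localization.Ideal
import Mathlib.RingTheory.Localization.BaseChange
import Mathlib.LinearAlgebra.FreeModule.StrongRankCondition
import Mathlib.RingTheory.Spectrum.Prime.Topology

set_option autoImplicit false

/-!
# Fitting ideals: localization, fibres, freeness
-/

namespace K360.FittFiber

open TensorProduct K360.FittBasic K360.FittMinors
open Groth.Agent.Flat2C.FittingZero (rel mem_rel)

universe u v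

section Localized

variable {R : Type u} [CommRing R] {M : Type v} [AddCommGroup M] [Module R M] [Module.Finite R M]

theorem ideal_localizedModule (S : Submonoid R) (k : ℕ) :
    Fitt.ideal (Localization S) (LocalizedModule S M) k =
      (Fitt.ideal R M k).map (algebraMap R (Localization S)) := by
  rw [← ideal_baseChange (Localization S) k]
  exact (ideal_congr (LocalizedModule.equivTensorProduct S M).symm k).symm

omit [Module.Finite R M] in
/-- If `f ∈ S` multiplies `M` into the span of `m`, then `m` generates the localization. -/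
theorem span_localizedModule_eq_top (S : Submonoid R) {ι : Type*} (m : ι → M) (f : R) (hf : f ∈ S)
    (hm : ∀ x : M, f • x ∈ Submodule.span R (Set.range m)) :
    Submodule.span (Localization S) (Set.range fun i => LocalizedModule.mk (m i) (1 : S)) = ⊤ := by
  rw [eq_top_iff]
  rintro y -
  induction y using LocalizedModule.induction_on with
  | h x s =>
    set P := Submodule.span (Localization S) (Set.range fun i => LocalizedModule.mk (m i) (1 : S))
    have h1 : ∀ z ∈ Submodule.span R (Set.range m), LocalizedModule.mk z (1 : S) ∈ P := by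
      intro z hz
      induction hz using Submodule.span_induction with
      | mem z hz =>
        obtain ⟨i, rfl⟩ := hz
        exact Submodule.subset_span ⟨i, rfl⟩
      | zero => rw [LocalizedModule.zero_mk]; exact P.zero_mem
      | add z w _ _ hz hw =>
        have : LocalizedModule.mk (z + w) (1 : S) = LocalizedModule.mk z 1 + LocalizedModule.mk w 1 := by
          simp
        rw [this]; exact P.add_mem hz hw
      | smul c z _ hz =>
        have : LocalizedModule.mk (c • z) (1 : S) = (algebraMap R (Localization S) c) •
            LocalizedModule.mk z 1 := by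
          rw [algebraMap_smul, LocalizedModule.smul'_mk]
        rw [this]; exact P.smul_mem _ hz
    have h2 := h1 _ (hm x)
    have h3 : LocalizedModule.mk x s = Localization.mk (1 : R) (⟨f, hf⟩ * s) •
        LocalizedModule.mk (f • x) (1 : S) := by
      rw [LocalizedModule.mk_smul_mk, one_smul, mul_one]
      rw [LocalizedModule.mk_eq]
      exact ⟨1, by simp [Submonoid.smul_def, mul_smul, mul_comm]⟩
    rw [h3]
    exact P.smul_mem _ h2

end Localized

section Field

variable {K : Type u} [Field K] {V : Type v} [AddCommGroup V] [Module K V] [Module.Finite K V]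

/-- The Fitting ideals of a family of linearly independent generators vanish below the rank. -/
theorem ideal_eq_bot_of_basis {R : Type u} [CommRing R] {M : Type v} [AddCommGroup M] [Module R M]
    {ι : Type*} [Fintype ι] (b : Module.Basis ι R M) {k : ℕ} (hk : k < Fintype.card ι) :
    Fitt.ideal R M k = ⊥ := by
  classical
  rw [ideal_eq_fit b b.span_eq, fit, Ideal.span_eq_bot]
  rintro _ ⟨a, t, ht, ha, rfl⟩
  obtain ⟨i, hi⟩ : ∃ i, i ∉ t := by
    by_contra h
    push Not at h
    have : t = Finset.univ := Finset.eq_univ_iff_forall.mpr h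
    rw [this, Finset.card_univ] at ht
    omega
  refine Matrix.det_eq_zero_of_row_eq_zero i fun j => ?_
  exact Fintype.linearIndependent_iff.mp b.linearIndependent (a i) (ha i hi) j

theorem ideal_eq_top_of_basis {R : Type u} [CommRing R] {M : Type v} [AddCommGroup M] [Module R M]
    {ι : Type*} [Fintype ι] (b : Module.Basis ι R M) {k : ℕ} (hk : Fintype.card ι ≤ k) :
    Fitt.ideal R M k = ⊤ := ideal_eq_top_of_card_le b b.span_eq hk

theorem ideal_eq_top_iff_finrank_le (k : ℕ) :
    Fitt.ideal K V k = ⊤ ↔ Module.finrank K V ≤ k := by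
  constructor
  · intro h
    by_contra hk
    rw [ideal_eq_bot_of_basis (Module.finBasis K V) (k := k) (by simpa using hk)] at h
    exact bot_ne_top h
  · intro h
    exact ideal_eq_top_of_basis (Module.finBasis K V) (by simpa using h)

end Field

section Fibre

variable {R : Type u} [CommRing R] {M : Type v} [AddCommGroup M] [Module R M] [Module.Finite R M]

theorem not_le_prime_iff_finrank (k : ℕ) (p : Ideal R) [p.IsPrime] :
    ¬ Fitt.ideal R M k ≤ p ↔ Module.finrank p.ResidueField (p.ResidueField ⊗[R] M) ≤ k := by
  rw [← ideal_eq_top_iff_finrank_le, ideal_baseChange]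
  have h1 : Fitt.ideal R M k ≤ p ↔ (Fitt.ideal R M k).map (algebraMap R p.ResidueField) = ⊥ := by
    rw [← le_bot_iff, Ideal.map_le_iff_le_comap, ← RingHom.ker_eq_comap_bot,
      Ideal.ker_algebraMap_residueField]
  rw [h1]
  rcases Ideal.eq_bot_or_top ((Fitt.ideal R M k).map (algebraMap R p.ResidueField)) with h | h
  · simp [h]
  · simp [h]

/-- Generators of the fibre lift. -/
theorem exists_generators_of_finrank_le (k : ℕ) (p : Ideal R) [p.IsPrime]
    (h : Module.finrank p.ResidueField (p.ResidueField ⊗[R] M) ≤ k) :
    ∃ (m : Fin k → M) (f : R), f ∉ p ∧ ∀ x : M, f • x ∈ Submodule.span R (Set.range m) := by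
  classical
  -- a basis of the fibre made of images of elements of `M`
  have hspan : Submodule.span p.ResidueField
      (Set.range fun x : M => (1 : p.ResidueField) ⊗ₜ[R] x) = ⊤ := by
    have := span_tmul_eq_top (R := R) (M := M) p.ResidueField (fun x : M => x) (by simp)
    exact this
  obtain ⟨b, hb, hbs, hbl⟩ := exists_linearIndependent p.ResidueField
    (Set.range fun x : M => (1 : p.ResidueField) ⊗ₜ[R] x)
  rw [hspan] at hbs
  have hfin : Finite b := hbl.finite
  let : Fintype b := Fintype.ofFinite b
  let B : Module.Basis b p.ResidueField (p.ResidueField ⊗[R] M) :=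
    Module.Basis.mk hbl (by rw [Subtype.range_coe, hbs])
  have hcard : Fintype.card b ≤ k := by
    rw [← Module.finrank_eq_card_basis B]; exact h
  choose g hg using fun i : b => hb i.2
  -- pad to a family indexed by `Fin k`
  let e : Fin (Fintype.card b) ≃ b := (Fintype.equivFin b).symm
  let m : Fin k → M := fun i => if hi : (i : ℕ) < Fintype.card b then g (e ⟨i, hi⟩) else 0
  let N := M ⧸ Submodule.span R (Set.range m)
  have hN : (⟨p, inferInstance⟩ : PrimeSpectrum R) ∉ Module.support R N := by
    rw [Module.mem_support_iff_nontrivial_residueField_tensorProduct,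
      not_nontrivial_iff_subsingleton]
    refine subsingleton_of_forall_eq 0 fun y => ?_
    have hmap : Function.Surjective ((Submodule.mkQ (Submodule.span R (Set.range m))).lTensor
        p.ResidueField) := LinearMap.lTensor_surjective _ (Submodule.mkQ_surjective _)
    obtain ⟨z, rfl⟩ := hmap y
    have hz : z ∈ Submodule.span p.ResidueField (b : Set (p.ResidueField ⊗[R] M)) := by
      rw [hbs]; trivial
    change ((Submodule.mkQ (Submodule.span R (Set.range m))).baseChange p.ResidueField) z = 0
    induction hz using Submodule.span_induction with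
    | mem z hz =>
      have h1 := hg ⟨z, hz⟩
      change (1 : p.ResidueField) ⊗ₜ[R] g ⟨z, hz⟩ = z at h1
      rw [← h1, LinearMap.baseChange_tmul, Submodule.mkQ_apply]
      have h2 : Submodule.Quotient.mk (p := Submodule.span R (Set.range m)) (g ⟨z, hz⟩) = 0 := by
        rw [Submodule.Quotient.mk_eq_zero]
        have hlt := (e.symm ⟨z, hz⟩).2
        refine Submodule.subset_span ⟨⟨e.symm ⟨z, hz⟩, hlt.trans_le hcard⟩, ?_⟩
        simp only [m, Fin.eta, hlt, dif_pos]
        congr 1
        exact e.apply_symm_apply _
      rw [h2, tmul_zero]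
    | zero => simp
    | add z w _ _ hz hw => rw [map_add, hz, hw, add_zero]
    | smul c z _ hz => rw [map_smul, hz, smul_zero]
  rw [Module.mem_support_iff_of_finite] at hN
  obtain ⟨f, hf, hfp⟩ := SetLike.not_le_iff_exists.mp hN
  refine ⟨m, f, hfp, fun x => ?_⟩
  have := Module.mem_annihilator.mp hf (Submodule.Quotient.mk x)
  rwa [← Submodule.Quotient.mk_smul, Submodule.Quotient.mk_eq_zero] at this

theorem map_away_ne_top {p : Ideal R} [p.IsPrime] {f : R} (hf : f ∉ p) {I : Ideal R} (hI : I ≤ p) :
    I.map (algebraMap R (Localization.Away f)) ≠ ⊤ := by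
  rw [IsLocalization.map_algebraMap_ne_top_iff_disjoint (Submonoid.powers f)]
  rw [Set.disjoint_left]
  rintro _ ⟨n, rfl⟩ hn
  exact hf (Ideal.IsPrime.mem_of_pow_mem ‹_› n (hI hn))

theorem not_le_of_away {k : ℕ} {p : Ideal R} [p.IsPrime] {f : R} (hf : f ∉ p)
    (h : Fitt.ideal (Localization.Away f) (LocalizedModule (Submonoid.powers f) M) k = ⊤) :
    ¬ Fitt.ideal R M k ≤ p := by
  intro hI
  rw [ideal_localizedModule] at h
  exact map_away_ne_top hf hI h

theorem not_le_of_atPrime {k : ℕ} {p : Ideal R} [p.IsPrime]
    (h : Fitt.ideal (Localization.AtPrime p) (LocalizedModule p.primeCompl M) k = ⊤) :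
    ¬ Fitt.ideal R M k ≤ p := by
  intro hI
  rw [ideal_localizedModule] at h
  refine (IsLocalization.map_algebraMap_ne_top_iff_disjoint p.primeCompl
    (Localization.AtPrime p) (Fitt.ideal R M k)).mpr ?_ h
  rw [Set.disjoint_left]
  intro x hx hx'
  exact hx (hI hx')

theorem nontrivial_away {p : Ideal R} [p.IsPrime] {f : R} (hf : f ∉ p) :
    Nontrivial (Localization.Away f) := by
  by_contra h
  rw [not_nontrivial_iff_subsingleton] at h
  exact map_away_ne_top hf (le_refl p) (Subsingleton.elim _ _)

/-- Generators with vanishing `(n-1)`-st Fitting ideal are linearly independent. -/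
theorem linearIndependent_of_ideal_eq_bot {R : Type u} [CommRing R] {M : Type v} [AddCommGroup M]
    [Module R M] {ι : Type*} [Fintype ι] (x : ι → M) (hx : Submodule.span R (Set.range x) = ⊤)
    (h : ∀ k, k < Fintype.card ι → Fitt.ideal R M k = ⊥) : LinearIndependent R x := by
  classical
  rw [Fintype.linearIndependent_iff]
  intro c hc i
  have hpos : 0 < Fintype.card ι := Fintype.card_pos_iff.mpr ⟨i⟩
  have h1 := h (Fintype.card ι - 1) (by omega)
  rw [ideal_eq_minors (κ := Unit) x hx (Fintype.card ι - 1) (by
    rw [Fintype.card_unit]; omega), Ideal.span_eq_bot] at h1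
  have := h1 (c i) ⟨fun _ => c, fun _ => i, fun _ => hc, by simp [Matrix.det_unique]⟩
  exact this

/-- The annihilator contains the zeroth Fitting ideal. -/
theorem ideal_zero_le_annihilator : Fitt.ideal R M 0 ≤ Module.annihilator R M := by
  obtain ⟨n, x, hx⟩ := Module.Finite.exists_fin (R := R) (M := M)
  rw [ideal_eq_fit x hx, fit, Ideal.span_le]
  rintro _ ⟨a, t, ht, ha, rfl⟩
  rw [Nat.le_zero, Finset.card_eq_zero] at ht
  subst ht
  have ha' : ∀ i, ∑ j, a i j • x j = 0 := fun i => ha i (by simp)
  have h1 : ∀ j, a.det • x j = 0 := by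
    intro j
    have h2 : ∀ l, ∑ i, a.adjugate j i * a i l = a.det * (1 : Matrix (Fin n) (Fin n) R) j l := by
      intro l
      have := congrFun (congrFun (Matrix.adjugate_mul a) j) l
      rw [Matrix.mul_apply] at this
      rw [this]; simp
    have h3 : ∑ l, (∑ i, a.adjugate j i * a i l) • x l = 0 := by
      simp_rw [Finset.sum_smul, mul_smul]
      rw [Finset.sum_comm]
      simp_rw [← Finset.smul_sum, ha', smul_zero, Finset.sum_const_zero]
    simp_rw [h2] at h3
    rw [Finset.sum_eq_single j] at h3
    · simpa using h3
    · intro l _ hl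
      rw [Matrix.one_apply_ne hl.symm, mul_zero, zero_smul]
    · intro hj; exact absurd (Finset.mem_univ j) hj
  rw [SetLike.mem_coe, Module.mem_annihilator]
  intro y
  have hy : y ∈ Submodule.span R (Set.range x) := by rw [hx]; trivial
  induction hy using Submodule.span_induction with
  | mem y hy => obtain ⟨j, rfl⟩ := hy; exact h1 j
  | zero => simp
  | add y z _ _ hy hz => rw [smul_add, hy, hz, add_zero]
  | smul c y _ hy => rw [smul_comm, hy, smul_zero]

theorem ideal_zero_quotient (I : Ideal R) : Fitt.ideal R (R ⧸ I) 0 = I := by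
  have hx : Submodule.span R (Set.range fun _ : Unit => (1 : R ⧸ I)) = ⊤ := by
    rw [eq_top_iff]
    rintro y -
    obtain ⟨r, rfl⟩ := Ideal.Quotient.mk_surjective y
    have : Ideal.Quotient.mk I r = r • (1 : R ⧸ I) := by
      rw [Algebra.smul_def, mul_one]; rfl
    rw [this]
    exact Submodule.smul_mem _ _ (Submodule.subset_span ⟨(), rfl⟩)
  rw [ideal_eq_fit _ hx]
  apply le_antisymm
  · rw [fit, Ideal.span_le]
    rintro _ ⟨a, t, ht, ha, rfl⟩
    rw [Nat.le_zero, Finset.card_eq_zero] at ht
    subst ht
    have := ha () (by simp)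
    rw [Matrix.det_unique]
    simp only [Finset.univ_unique, Finset.sum_singleton] at this
    rw [Algebra.smul_def, mul_one] at this
    exact Ideal.Quotient.eq_zero_iff_mem.mp this
  · intro r hr
    refine Ideal.subset_span ⟨Matrix.of fun _ _ => r, ∅, by simp, fun i _ => ?_, by
      simp [Matrix.det_unique]⟩
    simp only [Matrix.of_apply, Finset.univ_unique, Finset.sum_singleton]
    rw [Algebra.smul_def, mul_one]
    exact Ideal.Quotient.eq_zero_iff_mem.mpr hr

theorem zeroLocus_ideal_zero :
    PrimeSpectrum.zeroLocus (Fitt.ideal R M 0 : Set R) = Module.support R M := by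
  ext p
  rw [Module.mem_support_iff_nontrivial_residueField_tensorProduct, PrimeSpectrum.mem_zeroLocus,
    SetLike.coe_subset_coe]
  rw [← not_iff_not, not_le_prime_iff_finrank, Nat.le_zero, not_nontrivial_iff_subsingleton]
  exact Module.finrank_zero_iff

end Fibre

end K360.FittFiber
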