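import Groth.Agent.Fitt.K360.Fiber

set_option autoImplicit false

/-!
# Fitting ideals and local generators, local freeness
-/

namespace K360.FittLocFree

open TensorProduct K360.FittBasic K360.FittMinors K360.FittFiber

universe u v

variable {R : Type u} [CommRing R] {M : Type v} [AddCommGroup M] [Module R M] [Module.Finite R M]

theorem not_le_prime_iff_atPrime (k : ℕ) (p : Ideal R) [p.IsPrime] :
    ¬ Fitt.ideal R M k ≤ p ↔ ∃ g : Fin k → LocalizedModule p.primeCompl M,
      Submodule.span (Localization.AtPrime p) (Set.range g) = ⊤ := by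
  constructor
  · intro h
    obtain ⟨m, f, hf, hm⟩ := exists_generators_of_finrank_le k p ((not_le_prime_iff_finrank k p).mp h)
    exact ⟨_, span_localizedModule_eq_top p.primeCompl m f hf hm⟩
  · rintro ⟨g, hg⟩
    exact not_le_of_atPrime (ideal_eq_top_of_card_le g hg (by simp))

theorem exists_away_of_not_le (k : ℕ) (p : Ideal R) [p.IsPrime] (h : ¬ Fitt.ideal R M k ≤ p) :
    ∃ f : R, f ∉ p ∧ ∃ g : Fin k → LocalizedModule (Submonoid.powers f) M,
      Submodule.span (Localization.Away f) (Set.range g) = ⊤ := by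
  obtain ⟨m, f, hf, hm⟩ := exists_generators_of_finrank_le k p ((not_le_prime_iff_finrank k p).mp h)
  exact ⟨f, hf, _, span_localizedModule_eq_top (Submonoid.powers f) m f (Submonoid.mem_powers f) hm⟩

theorem not_le_prime_iff_away (k : ℕ) (p : Ideal R) [p.IsPrime] :
    ¬ Fitt.ideal R M k ≤ p ↔ ∃ f : R, f ∉ p ∧
      ∃ g : Fin k → LocalizedModule (Submonoid.powers f) M,
        Submodule.span (Localization.Away f) (Set.range g) = ⊤ := by
  constructor
  · exact exists_away_of_not_le k p
  · rintro ⟨f, hf, g, hg⟩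
    exact not_le_of_away hf (ideal_eq_top_of_card_le g hg (by simp))

/-- The local conditions for a locally free module of rank `r`. -/
def IsLocFree (R : Type u) [CommRing R] (M : Type v) [AddCommGroup M] [Module R M] (r : ℕ) : Prop :=
  ∀ (p : Ideal R) [p.IsPrime], ∃ f : R, f ∉ p ∧
      Module.Free (Localization.Away f) (LocalizedModule (Submonoid.powers f) M) ∧
        Module.finrank (Localization.Away f) (LocalizedModule (Submonoid.powers f) M) = r

theorem fitt_of_free {A : Type u} [CommRing A] [Nontrivial A] {N : Type v} [AddCommGroup N]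
    [Module A N] [Module.Finite A N] [Module.Free A N] (k : ℕ) :
    (k < Module.finrank A N → Fitt.ideal A N k = ⊥) ∧
      (Module.finrank A N ≤ k → Fitt.ideal A N k = ⊤) := by
  let b := Module.finBasis A N
  exact ⟨fun h => ideal_eq_bot_of_basis b (by simpa using h),
    fun h => ideal_eq_top_of_basis b (by simpa using h)⟩

theorem eq_bot_of_local {I : Ideal R} (h : ∀ (p : Ideal R) [p.IsPrime], ∃ f : R, f ∉ p ∧
    I.map (algebraMap R (Localization.Away f)) = ⊥) : I = ⊥ := by
  rw [eq_bot_iff]
  intro x hx
  rw [Submodule.mem_bot]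
  by_contra hne
  have h1 : Ideal.span {x} ≠ ⊥ := by simpa using hne
  have h2 : (⊥ : Ideal R).colon {x} ≠ ⊤ := by
    intro h
    apply hne
    have : (1 : R) ∈ (⊥ : Ideal R).colon {x} := by rw [h]; trivial
    simpa [Submodule.mem_colon_singleton] using this
  obtain ⟨m, hm, hle⟩ := Ideal.exists_le_maximal _ h2
  have := hm.isPrime
  obtain ⟨f, hf, hI⟩ := h m
  have h3 : algebraMap R (Localization.Away f) x = 0 := by
    have := Ideal.mem_map_of_mem (algebraMap R (Localization.Away f)) hx
    rwa [hI, Submodule.mem_bot] at this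
  obtain ⟨⟨_, n, rfl⟩, hn⟩ := (IsLocalization.map_eq_zero_iff (Submonoid.powers f)
    (Localization.Away f) x).mp h3
  refine hf (this.mem_of_pow_mem n (hle ?_))
  rw [Submodule.mem_colon_singleton]
  simpa using hn

theorem eq_top_of_local {I : Ideal R} (h : ∀ (p : Ideal R) [p.IsPrime], ∃ f : R, f ∉ p ∧
    I.map (algebraMap R (Localization.Away f)) = ⊤) : I = ⊤ := by
  by_contra hne
  obtain ⟨m, hm, hle⟩ := Ideal.exists_le_maximal _ hne
  have := hm.isPrime
  obtain ⟨f, hf, hI⟩ := h m
  exact map_away_ne_top hf hle hI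

theorem fitt_of_isLocFree {r : ℕ} (h : IsLocFree R M r) :
    (∀ k, k < r → Fitt.ideal R M k = ⊥) ∧ (∀ k, r ≤ k → Fitt.ideal R M k = ⊤) := by
  constructor
  · intro k hk
    refine eq_bot_of_local fun p _ => ?_
    obtain ⟨f, hf, hfree, hrank⟩ := h p
    have := nontrivial_away hf
    refine ⟨f, hf, ?_⟩
    have h1 := (fitt_of_free (A := Localization.Away f) (N := LocalizedModule (Submonoid.powers f) M)
      k).1 (by rwa [hrank])
    have h2 := ideal_localizedModule (M := M) (Submonoid.powers f) k
    exact h2.symm.trans h1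
  · intro k hk
    refine eq_top_of_local fun p _ => ?_
    obtain ⟨f, hf, hfree, hrank⟩ := h p
    have := nontrivial_away hf
    refine ⟨f, hf, ?_⟩
    have h1 := (fitt_of_free (A := Localization.Away f) (N := LocalizedModule (Submonoid.powers f) M)
      k).2 (by rwa [hrank])
    have h2 := ideal_localizedModule (M := M) (Submonoid.powers f) k
    exact h2.symm.trans h1

/-- Generators of the right number and vanishing Fitting ideals give freeness. -/
theorem free_of_generators {A : Type u} [CommRing A] [Nontrivial A] {N : Type v} [AddCommGroup N]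
    [Module A N] {r : ℕ} (g : Fin r → N) (hg : Submodule.span A (Set.range g) = ⊤)
    (h : ∀ k, k < r → Fitt.ideal A N k = ⊥) :
    Module.Free A N ∧ Module.finrank A N = r := by
  have hli := linearIndependent_of_ideal_eq_bot g hg (by simpa using h)
  let b := Module.Basis.mk hli hg.ge
  exact ⟨Module.Free.of_basis b, by simpa using Module.finrank_eq_card_basis b⟩

theorem isLocFree_of_fitt {r : ℕ} (h : ∀ k, k < r → Fitt.ideal R M k = ⊥)
    (h' : Fitt.ideal R M r = ⊤) : IsLocFree R M r := by
  intro p hp
  obtain ⟨f, hf, g, hg⟩ := exists_away_of_not_le (M := M) r p (by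
    rw [h']; exact fun hle => hp.ne_top (top_le_iff.mp hle))
  have := nontrivial_away hf
  refine ⟨f, hf, ?_⟩
  refine free_of_generators g hg fun k hk => ?_
  have h2 := ideal_localizedModule (M := M) (Submonoid.powers f) k
  rw [h k hk, Ideal.map_bot] at h2
  exact h2

theorem isLocFree_iff {r : ℕ} : IsLocFree R M r ↔
    ((∀ k, k < r → Fitt.ideal R M k = ⊥) ∧ (∀ k, r ≤ k → Fitt.ideal R M k = ⊤)) :=
  ⟨fitt_of_isLocFree, fun h => isLocFree_of_fitt h.1 (h.2 r le_rfl)⟩

end K360.FittLocFree
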