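import Groth.Prelude.Def_Fitting
import Groth.Agent.Flat2C.FittingZero

set_option autoImplicit false

/-!
# Fitting ideals of finite modules: basic calculus

`fit x r` is computed with a fixed family `x`; `ideal_eq_fit` says that it is `Fitt.ideal R M r` for any
generating family.
-/

namespace K360.FittBasic

open TensorProduct
open Groth.Agent.Flat2C.FittingZero (rel mem_rel)

universe u v

section Basic

variable {R : Type*} {M : Type*} [CommRing R] [AddCommGroup M] [Module R M]

/-- The ideal generated by the determinants of square matrices all of whose rows except for at most `r`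
ones are relations of the family `x`. -/
def fit {ι : Type*} [Fintype ι] [DecidableEq ι] (x : ι → M) (r : ℕ) : Ideal R :=
  Ideal.span {d | ∃ (a : Matrix ι ι R) (t : Finset ι), t.card ≤ r ∧
    (∀ i, i ∉ t → ∑ j, a i j • x j = 0) ∧ a.det = d}

theorem fit_le_of_equiv {ι κ : Type*} [Fintype ι] [DecidableEq ι] [Fintype κ] [DecidableEq κ]
    (e : κ ≃ ι) (x : ι → M) (r : ℕ) : fit (R := R) x r ≤ fit (R := R) (x ∘ e) r := by
  refine Ideal.span_le.mpr ?_
  rintro _ ⟨a, t, ht, ha, rfl⟩
  refine Ideal.subset_span ⟨a.submatrix e e, t.map e.symm.toEmbedding, by simpa using ht,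
    fun i hi => ?_, Matrix.det_submatrix_equiv_self e a⟩
  have hi' : e i ∉ t := fun h => hi (Finset.mem_map.mpr ⟨e i, h, by simp⟩)
  rw [← ha (e i) hi']
  exact e.sum_comp (fun j => a (e i) j • x j)

theorem fit_equiv {ι κ : Type*} [Fintype ι] [DecidableEq ι] [Fintype κ] [DecidableEq κ]
    (e : κ ≃ ι) (x : ι → M) (r : ℕ) : fit (R := R) (x ∘ e) r = fit (R := R) x r := by
  refine le_antisymm ?_ (fit_le_of_equiv e x r)
  have := fit_le_of_equiv (R := R) e.symm (x ∘ e) r
  rwa [Function.comp_assoc, Equiv.self_comp_symm, Function.comp_id] at this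

theorem fit_cons {n : ℕ} (x : Fin n → M) (y : M) (hy : y ∈ Submodule.span R (Set.range x)) (r : ℕ) :
    fit (R := R) (Fin.cons y x : Fin (n + 1) → M) r = fit (R := R) x r := by
  obtain ⟨c, rfl⟩ := (Submodule.mem_span_range_iff_exists_fun R).mp hy
  refine le_antisymm (Ideal.span_le.mpr ?_) (Ideal.span_le.mpr ?_)
  · rintro _ ⟨b, t, ht, hb, rfl⟩
    obtain ⟨b', hb0, hbS⟩ : ∃ b' : Matrix (Fin (n + 1)) (Fin (n + 1)) R,
        (∀ i, b' i 0 = b i 0) ∧ (∀ i (j : Fin n), b' i j.succ = b i j.succ + c j * b i 0) :=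
      ⟨fun i => Fin.cons (b i 0) (fun j => b i j.succ + c j * b i 0), fun _ => rfl, fun _ _ => rfl⟩
    have h1 : b'.det = b.det := by
      rw [← Matrix.det_transpose b', ← Matrix.det_transpose b]
      refine Matrix.det_eq_of_forall_row_eq_smul_add_const (Fin.cons 0 c) 0 (by simp) ?_
      intro i j
      refine Fin.cases ?_ (fun i => ?_) i
      · simp [Matrix.transpose_apply, hb0]
      · simp [Matrix.transpose_apply, hbS]
    rw [← h1, Matrix.det_succ_column_zero]
    refine Ideal.sum_mem _ fun i _ => Ideal.mul_mem_left _ _ (Ideal.subset_span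
      ⟨_, Finset.univ.filter (fun k => i.succAbove k ∈ t), ?_, fun k hk => ?_, rfl⟩)
    · refine le_trans ?_ ht
      refine Finset.card_le_card_of_injOn (fun k => i.succAbove k) (fun k hk => ?_)
        (fun k _ k' _ h => Fin.succAbove_right_injective h)
      simpa using hk
    · have h2 := hb (i.succAbove k) (fun h => hk (by simpa using h))
      rw [Fin.sum_univ_succ] at h2
      simp only [Fin.cons_zero, Fin.cons_succ, Finset.smul_sum] at h2
      simp only [Matrix.submatrix_apply, hbS, add_smul, Finset.sum_add_distrib, mul_smul]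
      refine Eq.trans ?_ h2
      rw [add_comm]
      congr 1
      exact Finset.sum_congr rfl fun j _ => smul_comm _ _ _
  · rintro _ ⟨a, t, ht, ha, rfl⟩
    let b : Matrix (Fin (n + 1)) (Fin (n + 1)) R :=
      Fin.cons (Fin.cons 1 (fun j => - c j)) (fun i => Fin.cons 0 (a i))
    refine Ideal.subset_span ⟨b, t.map (Fin.succEmb n), by simpa using ht, fun i => ?_, ?_⟩
    · rw [Fin.sum_univ_succ]
      refine Fin.cases ?_ (fun i => ?_) i
      · intro _; simp [b]
      · intro hi
        have hi' : i ∉ t := fun h => hi (Finset.mem_map.mpr ⟨i, h, rfl⟩)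
        simp [b, ha i hi']
    · rw [Matrix.det_succ_column_zero, Fin.sum_univ_succ]
      simp only [b, Fin.cons_zero, Fin.cons_succ, mul_zero, zero_mul, Finset.sum_const_zero,
        add_zero, Fin.val_zero, pow_zero, mul_one, one_mul, Fin.succAbove_zero]
      congr 1

theorem fit_option {ι : Type*} [Fintype ι] [DecidableEq ι] (x : ι → M) (y : M)
    (hy : y ∈ Submodule.span R (Set.range x)) (r : ℕ) :
    fit (R := R) (fun o : Option ι => o.elim y x) r = fit (R := R) x r := by
  have e := (Fintype.equivFin ι).symm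
  rw [← fit_equiv e x, ← fit_cons (x ∘ e) y (by rwa [e.surjective.range_comp]),
    ← fit_equiv ((finSuccEquiv _).trans e.optionCongr)]
  congr 1
  funext i
  refine Fin.cases ?_ (fun i => ?_) i <;> simp

theorem fit_sum {ι κ : Type*} [Fintype ι] [DecidableEq ι] [Fintype κ] [DecidableEq κ]
    (x : ι → M) (hx : Submodule.span R (Set.range x) = ⊤) (y : κ → M) (r : ℕ) :
    fit (R := R) (Sum.elim y x) r = fit (R := R) x r := by
  classical
  revert y
  refine Fintype.induction_empty_option (P := fun κ _ => ∀ [DecidableEq κ] (y : κ → M),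
    fit (R := R) (Sum.elim y x) r = fit (R := R) x r) ?_ ?_ ?_ κ
  · intro κ κ' _ e h _ y
    let _ : Fintype κ := Fintype.ofEquiv κ' e.symm
    let _ : DecidableEq κ := Classical.decEq _
    rw [← h (y ∘ e), ← fit_equiv (e.sumCongr (Equiv.refl ι))]
    congr 1
    funext i
    rcases i with i | i <;> rfl
  · intro _ y
    rw [← fit_equiv (Equiv.emptySum PEmpty ι).symm]
    rfl
  · intro κ _ h _ y
    rw [← h (y ∘ some), ← fit_option (Sum.elim (y ∘ some) x) (y none) (by
      rw [show Submodule.span R (Set.range (Sum.elim (y ∘ some) x)) = ⊤ from by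
        rw [Set.Sum.elim_range, Submodule.span_union, hx, sup_top_eq]]
      trivial)]
    let e : Option (κ ⊕ ι) ≃ Option κ ⊕ ι :=
      { toFun := fun o => o.elim (Sum.inl none) (Sum.elim (fun k => Sum.inl (some k)) Sum.inr)
        invFun := Sum.elim (fun o => o.elim none (fun k => some (Sum.inl k))) (fun i => some (Sum.inr i))
        left_inv := by rintro (_ | _ | _) <;> rfl
        right_inv := by rintro ((_ | _) | _) <;> rfl }
    rw [← fit_equiv e]
    congr 1
    funext i
    rcases i with _ | _ | _ <;> rfl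

/-- `fit` does not depend on the generating family. -/
theorem fit_eq {ι κ : Type*} [Fintype ι] [DecidableEq ι] [Fintype κ] [DecidableEq κ]
    (x : ι → M) (hx : Submodule.span R (Set.range x) = ⊤) (y : κ → M)
    (hy : Submodule.span R (Set.range y) = ⊤) (r : ℕ) :
    fit (R := R) y r = fit (R := R) x r := by
  rw [← fit_sum x hx y, ← fit_sum y hy x, ← fit_equiv (Equiv.sumComm κ ι)]
  congr 1
  funext i
  rcases i with i | i <;> rfl

/-- A multilinear map evaluated at a tuple with `v i ∈ span (s i)` lies in the span of its values at the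
tuples with `u i ∈ s i`. -/
theorem multilinear_mem_span' {ι V W : Type*} [Fintype ι] [DecidableEq ι] [AddCommGroup V]
    [Module R V] [AddCommGroup W] [Module R W] (f : MultilinearMap R (fun _ : ι => V) W)
    (s : ι → Set V) (v : ι → V) (hv : ∀ i, v i ∈ Submodule.span R (s i)) :
    f v ∈ Submodule.span R {w | ∃ u : ι → V, (∀ i, u i ∈ s i) ∧ f u = w} := by
  have key : ∀ (t : Finset ι) (v : ι → V), (∀ i ∈ t, v i ∈ Submodule.span R (s i)) →
      (∀ i ∉ t, v i ∈ s i) → f v ∈ Submodule.span R {w | ∃ u : ι → V, (∀ i, u i ∈ s i) ∧ f u = w} := by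
    intro t
    induction t using Finset.induction_on with
    | empty =>
      intro v _ h
      exact Submodule.subset_span ⟨v, fun i => h i (by simp), rfl⟩
    | insert i t hi ih =>
      intro v h1 h2
      have h3 : f v = f.toLinearMap v i (v i) := by simp
      rw [h3]
      have h4 : f.toLinearMap v i (v i) ∈ (Submodule.span R (s i)).map (f.toLinearMap v i) :=
        ⟨_, h1 i (by simp), rfl⟩
      rw [Submodule.map_span] at h4
      refine Submodule.span_le.mpr ?_ h4
      rintro _ ⟨w, hw, rfl⟩
      refine ih (Function.update v i w) (fun j hj => ?_) (fun j hj => ?_)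
      · have : j ≠ i := fun h => hi (h ▸ hj)
        rw [Function.update_of_ne this]
        exact h1 j (Finset.mem_insert_of_mem hj)
      · by_cases hji : j = i
        · subst hji; simpa using hw
        · rw [Function.update_of_ne hji]
          exact h2 j (by simp [hji, hj])
  exact key Finset.univ v (fun i _ => hv i) (fun i hi => absurd (Finset.mem_univ i) hi)

theorem det_mem_span' {ι : Type*} [Fintype ι] [DecidableEq ι] (s : ι → Set (ι → R))
    (a : Matrix ι ι R) (ha : ∀ i, a i ∈ Submodule.span R (s i)) :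
    a.det ∈ Ideal.span {w | ∃ u : Matrix ι ι R, (∀ i, u i ∈ s i) ∧ u.det = w} :=
  multilinear_mem_span' (Matrix.detRowAlternating (n := ι) (R := R)).toMultilinearMap s a ha

/-- `fit` can be computed with any generating set `s` of the relations and any generating set `s'` of the
free module for the free rows. -/
theorem fit_eq_span {ι : Type*} [Fintype ι] [DecidableEq ι] (x : ι → M) (s s' : Set (ι → R))
    (hs : Submodule.span R s = rel x) (hs' : Submodule.span R s' = ⊤) (r : ℕ) :
    fit (R := R) x r = Ideal.span {w | ∃ (u : Matrix ι ι R) (t : Finset ι), t.card ≤ r ∧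
      (∀ i, i ∉ t → u i ∈ s) ∧ (∀ i, i ∈ t → u i ∈ s') ∧ u.det = w} := by
  classical
  refine le_antisymm (Ideal.span_le.mpr ?_) (Ideal.span_le.mpr ?_)
  · rintro _ ⟨a, t, ht, ha, rfl⟩
    have h := det_mem_span' (fun i => if i ∈ t then s' else s) a (fun i => by
      by_cases hi : i ∈ t
      · rw [if_pos hi, hs']; trivial
      · rw [if_neg hi, hs, mem_rel]; exact ha i hi)
    refine Submodule.span_mono ?_ h
    rintro _ ⟨u, hu, rfl⟩
    refine ⟨u, t, ht, fun i hi => ?_, fun i hi => ?_, rfl⟩
    · have := hu i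
      rwa [if_neg hi] at this
    · have := hu i
      rwa [if_pos hi] at this
  · rintro _ ⟨u, t, ht, hu, -, rfl⟩
    refine Ideal.subset_span ⟨u, t, ht, fun i hi => ?_, rfl⟩
    rw [← mem_rel, ← hs]
    exact Submodule.subset_span (hu i hi)

theorem span_single {ι : Type*} [Fintype ι] [DecidableEq ι] :
    Submodule.span R (Set.range fun i : ι => (Pi.single i 1 : ι → R)) = ⊤ := by
  have := (Pi.basisFun R ι).span_eq
  rwa [show ⇑(Pi.basisFun R ι) = fun i : ι => (Pi.single i 1 : ι → R) from by
    funext i; simp] at this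

/-- `fit` is finitely generated if the relations are. -/
theorem fit_fg {ι : Type*} [Fintype ι] [DecidableEq ι] (x : ι → M)
    (h : (rel (R := R) x).FG) (r : ℕ) : (fit (R := R) x r).FG := by
  classical
  obtain ⟨s, hs⟩ := h
  rw [fit_eq_span x _ _ hs span_single]
  refine Submodule.fg_span ?_
  have h1 : {u : Matrix ι ι R | ∀ i, u i ∈ (s : Set (ι → R)) ∪
      Set.range (fun i : ι => (Pi.single i 1 : ι → R))}.Finite :=
    Set.Finite.pi' (fun _ => s.finite_toSet.union (Set.finite_range _))
  refine (h1.image Matrix.det).subset ?_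
  rintro _ ⟨u, t, -, hu, hu', rfl⟩
  refine ⟨u, fun i => ?_, rfl⟩
  by_cases hi : i ∈ t
  · exact Or.inr (hu' i hi)
  · exact Or.inl (hu i hi)

/-- The relations after a base change. -/
theorem rel_baseChange (S : Type*) [CommRing S] [Algebra R S] {ι : Type*} [Fintype ι]
    (x : ι → M) (hx : Submodule.span R (Set.range x) = ⊤) :
    Submodule.span S ((fun c : ι → R => algebraMap R S ∘ c) '' (rel (R := R) x : Set (ι → R)))
      = rel (R := S) (fun i => (1 : S) ⊗ₜ[R] x i) := by
  apply le_antisymm
  · refine Submodule.span_le.mpr ?_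
    rintro _ ⟨c, hc, rfl⟩
    rw [SetLike.mem_coe, mem_rel] at hc ⊢
    simp only [Function.comp_apply, algebraMap_smul, ← tmul_smul, ← tmul_sum, hc, tmul_zero]
  · intro c hc
    rw [mem_rel] at hc
    simp only [smul_tmul', smul_eq_mul, mul_one] at hc
    have hc' : ∑ i, x i ⊗ₜ[R] c i = 0 := by
      have := congrArg (TensorProduct.comm R S M) hc
      simpa using this
    obtain ⟨k, a, y, h1, h2⟩ := vanishesTrivially_of_sum_tmul_eq_zero R hx hc'
    have h3 : c = ∑ j, y j • (algebraMap R S ∘ fun i => a i j) := by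
      funext i
      rw [h1 i, Finset.sum_apply]
      refine Finset.sum_congr rfl fun j _ => ?_
      simp [Algebra.smul_def, mul_comm]
    rw [h3]
    refine Submodule.sum_mem _ fun j _ => Submodule.smul_mem _ _ (Submodule.subset_span
      ⟨fun i => a i j, ?_, rfl⟩)
    rw [SetLike.mem_coe, mem_rel]
    exact h2 j

/-- Base change of `fit`. -/
theorem fit_baseChange (S : Type*) [CommRing S] [Algebra R S] {ι : Type*} [Fintype ι]
    [DecidableEq ι] (x : ι → M) (hx : Submodule.span R (Set.range x) = ⊤) (r : ℕ) :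
    fit (R := S) (fun i => (1 : S) ⊗ₜ[R] x i) r = (fit (R := R) x r).map (algebraMap R S) := by
  have h2 : Submodule.span S (Set.range (fun c : ι → R => algebraMap R S ∘ c)) = ⊤ := by
    rw [eq_top_iff, ← span_single (R := S) (ι := ι)]
    refine Submodule.span_mono ?_
    rintro _ ⟨i, rfl⟩
    refine ⟨Pi.single i 1, ?_⟩
    funext j
    by_cases h : j = i
    · subst h; simp
    · simp [Pi.single_eq_of_ne h]
  rw [fit_eq_span _ _ _ (rel_baseChange S x hx) h2, fit, Ideal.map_span]
  congr 1
  ext w
  constructor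
  · rintro ⟨u, t, ht, hu, hu', rfl⟩
    have h3 : ∀ i, ∃ c : ι → R, (i ∉ t → c ∈ rel (R := R) x) ∧ algebraMap R S ∘ c = u i := by
      intro i
      by_cases hi : i ∈ t
      · obtain ⟨c, hc⟩ := hu' i hi
        exact ⟨c, fun h => absurd hi h, hc⟩
      · obtain ⟨c, hc, hc'⟩ := hu i hi
        exact ⟨c, fun _ => hc, hc'⟩
    choose a ha hau using h3
    refine ⟨(Matrix.of a).det, ⟨Matrix.of a, t, ht, fun i hi => ?_, rfl⟩, ?_⟩
    · rw [← mem_rel]; exact ha i hi
    · rw [RingHom.map_det]
      congr 1
      ext i j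
      exact congrFun (hau i) j
  · rintro ⟨_, ⟨a, t, ht, ha, rfl⟩, rfl⟩
    refine ⟨(algebraMap R S).mapMatrix a, t, ht, fun i hi => ⟨a i, ?_, rfl⟩, fun i _ => ⟨a i, rfl⟩,
      (RingHom.map_det _ _).symm⟩
    rw [SetLike.mem_coe, mem_rel]; exact ha i hi

theorem fit_mono {ι : Type*} [Fintype ι] [DecidableEq ι] (x : ι → M) {r r' : ℕ} (h : r ≤ r') :
    fit (R := R) x r ≤ fit (R := R) x r' := by
  refine Ideal.span_mono ?_
  rintro _ ⟨a, t, ht, ha, rfl⟩
  exact ⟨a, t, ht.trans h, ha, rfl⟩

theorem fit_eq_top {ι : Type*} [Fintype ι] [DecidableEq ι] (x : ι → M) {r : ℕ}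
    (h : Fintype.card ι ≤ r) : fit (R := R) x r = ⊤ := by
  rw [Ideal.eq_top_iff_one]
  refine Ideal.subset_span ⟨1, Finset.univ, by simpa using h, fun i hi => ?_, by simp⟩
  exact absurd (Finset.mem_univ i) hi

theorem fit_map {N : Type*} [AddCommGroup N] [Module R N] {ι : Type*} [Fintype ι] [DecidableEq ι]
    (x : ι → M) (f : M →ₗ[R] N) (r : ℕ) : fit (R := R) x r ≤ fit (R := R) (f ∘ x) r := by
  refine Ideal.span_mono ?_
  rintro _ ⟨a, t, ht, ha, rfl⟩
  refine ⟨a, t, ht, fun i hi => ?_, rfl⟩
  have := congrArg f (ha i hi)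
  simpa using this

end Basic

section Fitting

variable {R : Type u} [CommRing R] {M : Type v} [AddCommGroup M] [Module R M]

/-- The Fitting ideal, computed with any generating family. -/
theorem ideal_eq_fit {ι : Type*} [Fintype ι] [DecidableEq ι] (x : ι → M)
    (hx : Submodule.span R (Set.range x) = ⊤) (r : ℕ) : Fitt.ideal R M r = fit (R := R) x r := by
  apply le_antisymm
  · refine Ideal.span_le.mpr ?_
    rintro _ ⟨n, y, a, hy, ha, rfl⟩
    rw [← fit_eq x hx y hy]
    refine Ideal.subset_span ⟨a, Finset.univ.filter (fun i : Fin n => n - r ≤ (i : ℕ)), ?_,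
      fun i hi => ha i ?_, rfl⟩
    · rcases le_total n r with h | h
      · refine (Finset.card_le_univ _).trans ?_
        simpa using h
      · have : (Finset.univ.filter (fun i : Fin n => n - r ≤ (i : ℕ))).card ≤ (Finset.Ico (n - r) n).card := by
          refine Finset.card_le_card_of_injOn (fun i => (i : ℕ)) (fun i hi => ?_)
            (fun i _ j _ h => Fin.ext h)
          simp only [Finset.coe_filter, Finset.mem_univ, true_and, Set.mem_ofPred_eq] at hi
          simp only [Finset.coe_Ico, Set.mem_Ico]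
          exact ⟨hi, i.2⟩
        rw [Nat.card_Ico] at this
        omega
    · simp only [Finset.mem_filter, Finset.mem_univ, true_and, not_le] at hi
      exact hi
  · refine Ideal.span_le.mpr ?_
    rintro _ ⟨a, t, ht, ha, rfl⟩
    -- an enumeration of `ι` which starts with the complement of `t`
    obtain ⟨e, he⟩ : ∃ e : Fin (Fintype.card ι) ≃ ι,
        ∀ i : Fin (Fintype.card ι), (i : ℕ) < Fintype.card ι - r → e i ∉ t := by
      classical
      have h1 : Fintype.card {i // i ∉ t} + Fintype.card {i // i ∈ t} = Fintype.card ι := by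
        rw [add_comm, Fintype.card_subtype_compl, Fintype.card_coe]
        have := Finset.card_le_univ t
        omega
      let e : Fin (Fintype.card ι) ≃ ι :=
        ((finCongr h1.symm).trans finSumFinEquiv.symm).trans
          ((Equiv.sumCongr (Fintype.equivFin {i // i ∉ t}).symm
            (Fintype.equivFin {i // i ∈ t}).symm).trans
            ((Equiv.sumComm _ _).trans (Equiv.sumCompl (fun i => i ∈ t))))
      refine ⟨e, fun i hi => ?_⟩
      have h2 : (i : ℕ) < Fintype.card {i // i ∉ t} := by
        have : Fintype.card {i // i ∈ t} ≤ r := by rwa [Fintype.card_coe]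
        omega
      have h3 : finSumFinEquiv.symm (finCongr h1.symm i) =
          Sum.inl (⟨i, h2⟩ : Fin (Fintype.card {i // i ∉ t})) := by
        rw [Equiv.symm_apply_eq]
        ext
        simp
      simp only [e, Equiv.trans_apply, h3, Equiv.sumCongr_apply, Sum.map_inl, Equiv.sumComm_apply,
        Sum.swap_inl, Equiv.sumCompl_apply_inr]
      exact ((Fintype.equivFin {i // i ∉ t}).symm ⟨i, h2⟩).2
    refine Ideal.subset_span ⟨Fintype.card ι, x ∘ e, a.submatrix e e, ?_, fun i hi => ?_,
      (Matrix.det_submatrix_equiv_self e a).symm⟩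
    · rw [e.surjective.range_comp]; exact hx
    · rw [← ha (e i) (he i hi)]
      exact e.sum_comp (fun j => a (e i) j • x j)

theorem ideal_mono {r r' : ℕ} (h : r ≤ r') [Module.Finite R M] :
    Fitt.ideal R M r ≤ Fitt.ideal R M r' := by
  obtain ⟨n, x, hx⟩ := Module.Finite.exists_fin (R := R) (M := M)
  rw [ideal_eq_fit x hx, ideal_eq_fit x hx]
  exact fit_mono x h

theorem span_image_eq_top {N : Type*} [AddCommGroup N] [Module R N] {ι : Type*}
    (x : ι → M) (hx : Submodule.span R (Set.range x) = ⊤) (f : M →ₗ[R] N)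
    (hf : Function.Surjective f) : Submodule.span R (Set.range (f ∘ x)) = ⊤ := by
  rw [Set.range_comp, ← Submodule.map_span, hx, Submodule.map_top, LinearMap.range_eq_top.mpr hf]

theorem ideal_le_of_surjective {N : Type*} [AddCommGroup N] [Module R N] [Module.Finite R M]
    (f : M →ₗ[R] N) (hf : Function.Surjective f) (r : ℕ) :
    Fitt.ideal R M r ≤ Fitt.ideal R N r := by
  obtain ⟨n, x, hx⟩ := Module.Finite.exists_fin (R := R) (M := M)
  rw [ideal_eq_fit x hx, ideal_eq_fit (f ∘ x) (span_image_eq_top x hx f hf)]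
  exact fit_map x f r

theorem ideal_congr {N : Type*} [AddCommGroup N] [Module R N] [Module.Finite R M]
    (e : M ≃ₗ[R] N) (r : ℕ) : Fitt.ideal R M r = Fitt.ideal R N r := by
  have : Module.Finite R N := Module.Finite.equiv e
  exact le_antisymm (ideal_le_of_surjective e.toLinearMap e.surjective r)
    (ideal_le_of_surjective e.symm.toLinearMap e.symm.surjective r)

theorem span_tmul_eq_top (S : Type*) [CommRing S] [Algebra R S] {ι : Type*}
    (x : ι → M) (hx : Submodule.span R (Set.range x) = ⊤) :
    Submodule.span S (Set.range fun i => (1 : S) ⊗ₜ[R] x i) = ⊤ := by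
  have := Submodule.baseChange_span (R := R) (M := M) (A := S) (Set.range x)
  rw [hx, Submodule.baseChange_top, ← Set.range_comp] at this
  exact this.symm

theorem ideal_baseChange (S : Type*) [CommRing S] [Algebra R S] [Module.Finite R M] (r : ℕ) :
    Fitt.ideal S (S ⊗[R] M) r = (Fitt.ideal R M r).map (algebraMap R S) := by
  obtain ⟨n, x, hx⟩ := Module.Finite.exists_fin (R := R) (M := M)
  rw [ideal_eq_fit x hx, ← fit_baseChange S x hx,
    ideal_eq_fit (fun i => (1 : S) ⊗ₜ[R] x i) (span_tmul_eq_top S x hx)]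

theorem ideal_eq_top_of_card_le {ι : Type*} [Fintype ι] (x : ι → M)
    (hx : Submodule.span R (Set.range x) = ⊤) {r : ℕ} (h : Fintype.card ι ≤ r) :
    Fitt.ideal R M r = ⊤ := by
  classical
  rw [ideal_eq_fit x hx, fit_eq_top x h]

theorem ideal_fg [Module.FinitePresentation R M] (r : ℕ) : (Fitt.ideal R M r).FG := by
  obtain ⟨n, x, hx⟩ := Module.Finite.exists_fin (R := R) (M := M)
  rw [ideal_eq_fit x hx]
  refine fit_fg x ?_ r
  change (LinearMap.ker (Fintype.linearCombination R x)).FG
  refine Module.FinitePresentation.fg_ker _ ?_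
  rw [← LinearMap.range_eq_top, Fintype.range_linearCombination, hx]

end Fitting

end K360.FittBasic
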