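import Groth.Agent.Fitt.K360.Basic
import Mathlib.LinearAlgebra.Matrix.Determinant.Misc
import Mathlib.LinearAlgebra.Matrix.Block

set_option autoImplicit false

/-!
# Fitting ideals as ideals of minors
-/

namespace K360.FittMinors

open K360.FittBasic
open Groth.Agent.Flat2C.FittingZero (rel mem_rel)

universe u v

section

variable {R : Type*} {M : Type*} [CommRing R] [AddCommGroup M] [Module R M]

theorem det_submatrix_equiv_equiv {ι κ : Type*} [Fintype ι] [DecidableEq ι] [Fintype κ]
    [DecidableEq κ] (u : Matrix ι ι R) (e e' : κ ≃ ι) :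
    (u.submatrix e e').det = Equiv.Perm.sign (e'.symm.trans e) * u.det := by
  have h : u.submatrix e e' = (u.submatrix (e'.symm.trans e) id).submatrix e' e' := by
    ext i j; simp
  rw [h, Matrix.det_submatrix_equiv_self, Matrix.det_permute]

theorem det_mem_of_submatrix {ι κ : Type*} [Fintype ι] [DecidableEq ι] [Fintype κ]
    [DecidableEq κ] (u : Matrix ι ι R) (e e' : κ ≃ ι) (I : Ideal R)
    (h : (u.submatrix e e').det ∈ I) : u.det ∈ I := by
  have h1 : u.det = Equiv.Perm.sign (e'.symm.trans e) * (u.submatrix e e').det := by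
    rw [det_submatrix_equiv_equiv, ← mul_assoc]
    rcases Int.units_eq_one_or (Equiv.Perm.sign (e'.symm.trans e)) with h | h <;> rw [h] <;> simp
  rw [h1]
  exact Ideal.mul_mem_left _ _ h

theorem fit_eq_minors {ι κ : Type*} [Fintype ι] [DecidableEq ι] [Fintype κ] [DecidableEq κ]
    (x : ι → M) (k : ℕ) (hκ : Fintype.card κ = Fintype.card ι - k) :
    fit (R := R) x k = Ideal.span {d | ∃ (z : κ → (ι → R)) (e : κ → ι),
      (∀ j, ∑ i, z j i • x i = 0) ∧ d = (Matrix.of fun a b => z b (e a)).det} := by
  apply le_antisymm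
  · refine Ideal.span_le.mpr ?_
    rintro _ ⟨a, t₀, ht₀, ha₀, rfl⟩
    -- enlarge `t₀`
    obtain ⟨t, htt, ht⟩ : ∃ t : Finset ι, t₀ ⊆ t ∧ t.card = min k (Fintype.card ι) :=
      Finset.exists_superset_card_eq (le_min ht₀ (Finset.card_le_univ _)) (min_le_right _ _)
    have ha : ∀ i, i ∉ t → ∑ j, a i j • x j = 0 := fun i hi => ha₀ i (fun h => hi (htt h))
    have hspan := det_mem_span' (fun i => if i ∈ t then
        (Set.range fun i : ι => (Pi.single i 1 : ι → R)) else (rel (R := R) x : Set (ι → R))) a
        (fun i => by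
          by_cases hi : i ∈ t
          · rw [if_pos hi, span_single]; trivial
          · rw [if_neg hi, Submodule.span_eq, mem_rel]; exact ha i hi)
    refine (Ideal.span_le.mpr ?_) hspan
    rintro _ ⟨u, hu, rfl⟩
    have h1 : ∀ i : {i // i ∈ t}, ∃ j : ι, Pi.single j (1 : R) = u i := by
      intro i
      have := hu i
      rw [if_pos i.2] at this
      exact this
    choose f hf using h1
    by_cases hinj : Function.Injective f
    swap
    · have : u.det = 0 := by
        simp only [Function.Injective, not_forall] at hinj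
        obtain ⟨i, j, hij, hne⟩ := hinj
        refine Matrix.det_zero_of_row_eq (i := i.1) (j := j.1) (fun h => hne (Subtype.ext h)) ?_
        rw [← hf, ← hf, hij]
      rw [this]
      exact Submodule.zero_mem _
    -- the columns
    let T : Finset ι := Finset.univ.image f
    have hT : Fintype.card {j // j ∉ T} = Fintype.card {i // i ∉ t} := by
      rw [Fintype.card_subtype_compl, Fintype.card_subtype_compl, Fintype.card_coe,
        Fintype.card_coe]
      congr 1
      rw [Finset.card_image_of_injective _ hinj, Finset.card_univ, Fintype.card_coe]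
    let g : {i // i ∉ t} ≃ {j // j ∉ T} := Fintype.equivOfCardEq hT.symm
    have hcard : Fintype.card κ = Fintype.card {i // i ∉ t} := by
      rw [hκ, Fintype.card_subtype_compl, Fintype.card_coe, ht]
      omega
    let h : κ ≃ {i // i ∉ t} := Fintype.equivOfCardEq hcard
    let fT : {i // i ∈ t} ≃ {j // j ∈ T} := Equiv.ofBijective
      (fun i => ⟨f i, Finset.mem_image_of_mem f (Finset.mem_univ i)⟩) (by
        refine ⟨fun i j hij => hinj (congrArg Subtype.val hij), fun j => ?_⟩
        obtain ⟨i, -, hi⟩ := Finset.mem_image.mp j.2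
        exact ⟨i, Subtype.ext hi⟩)
    let eR : {i // i ∈ t} ⊕ {i // i ∉ t} ≃ ι := Equiv.sumCompl (fun i => i ∈ t)
    let eC : {i // i ∈ t} ⊕ {i // i ∉ t} ≃ ι :=
      (Equiv.sumCongr fT g).trans (Equiv.sumCompl (fun i => i ∈ T))
    let D : Matrix {i // i ∉ t} {i // i ∉ t} R := Matrix.of fun i j => u i.1 (g j).1
    refine det_mem_of_submatrix u eR eC _ ?_
    have hblock : u.submatrix eR eC = Matrix.fromBlocks 1 0
        (Matrix.of fun i j => u i.1 (f j)) D := by
      ext i j
      rcases i with i | i <;> rcases j with j | j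
      · simp only [Matrix.submatrix_apply, Matrix.fromBlocks_apply₁₁]
        change u i.1 (f j) = _
        rw [← hf i, Matrix.one_apply, Pi.single_apply]
        by_cases hij : i = j
        · rw [if_pos hij, if_pos (by rw [hij])]
        · rw [if_neg hij, if_neg (fun hh => hij (hinj hh).symm)]
      · simp only [Matrix.submatrix_apply, Matrix.fromBlocks_apply₁₂]
        change u i.1 (g j).1 = _
        rw [← hf i, Pi.single_apply, if_neg]
        · rfl
        · intro hh
          exact (g j).2 (hh ▸ Finset.mem_image_of_mem f (Finset.mem_univ i))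
      · rfl
      · rfl
    rw [hblock, Matrix.det_fromBlocks_zero₁₂, Matrix.det_one, one_mul]
    refine Ideal.subset_span ⟨fun b => u (h b).1, fun a => (g (h a)).1, fun j => ?_, ?_⟩
    · have := hu (h j).1
      rw [if_neg (h j).2] at this
      exact (mem_rel _ _).mp this
    · rw [← Matrix.det_submatrix_equiv_self h D, ← Matrix.det_transpose]
      rfl
  · refine Ideal.span_le.mpr ?_
    rintro _ ⟨z, e, hz, rfl⟩
    by_cases hinj : Function.Injective e
    swap
    · have : (Matrix.of fun a b => z b (e a)).det = 0 := by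
        simp only [Function.Injective, not_forall] at hinj
        obtain ⟨i, j, hij, hne⟩ := hinj
        refine Matrix.det_zero_of_row_eq (i := i) (j := j) hne ?_
        funext b
        simp [hij]
      rw [this]
      exact Submodule.zero_mem _
    let t : Finset ι := (Finset.univ.image e)ᶜ
    have ht : t.card ≤ k := by
      rw [Finset.card_compl, Finset.card_image_of_injective _ hinj, Finset.card_univ, hκ]
      omega
    have hmem : ∀ i : ι, i ∉ t ↔ ∃ a, e a = i := by
      intro i
      simp [t]
    let eT : κ ≃ {i // ¬ i ∈ t} := Equiv.ofBijective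
      (fun a => ⟨e a, (hmem _).mpr ⟨a, rfl⟩⟩) (by
        refine ⟨fun i j hij => hinj (congrArg Subtype.val hij), fun j => ?_⟩
        obtain ⟨i, hi⟩ := (hmem j.1).mp j.2
        exact ⟨i, Subtype.ext hi⟩)
    let E : κ ⊕ {i // i ∈ t} ≃ ι := (Equiv.sumComm _ _).trans
      ((Equiv.sumCongr (Equiv.refl _) eT).trans (Equiv.sumCompl (fun i => i ∈ t)))
    have hE1 : ∀ a : κ, E (Sum.inl a) = e a := fun a => rfl
    have hE2 : ∀ i : {i // i ∈ t}, E (Sum.inr i) = i.1 := fun a => rfl
    -- the matrix
    obtain ⟨u, hu1, hu2⟩ : ∃ u : Matrix ι ι R, (∀ a, u (e a) = z a) ∧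
        (∀ i : {i // i ∈ t}, u i.1 = Pi.single i.1 1) := by
      refine ⟨fun i => Sum.elim z (fun i : {i // i ∈ t} => Pi.single i.1 1) (E.symm i),
        fun a => ?_, fun i => ?_⟩
      · have h1 : E.symm (e a) = Sum.inl a := by rw [Equiv.symm_apply_eq, hE1]
        beta_reduce
        rw [h1, Sum.elim_inl]
      · have h1 : E.symm i.1 = Sum.inr i := by rw [Equiv.symm_apply_eq, hE2]
        beta_reduce
        rw [h1, Sum.elim_inr]
    have hdet : u.det = (Matrix.of fun a b => z b (e a)).det := by
      rw [← Matrix.det_submatrix_equiv_self E u]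
      have hblock : u.submatrix E E = Matrix.fromBlocks (Matrix.of fun a b => z a (e b))
          (Matrix.of fun a (i : {i // i ∈ t}) => z a i.1) 0 1 := by
        ext i j
        rcases i with i | i <;> rcases j with j | j
        · rw [Matrix.submatrix_apply, Matrix.fromBlocks_apply₁₁, hE1, hE1, hu1, Matrix.of_apply]
        · rw [Matrix.submatrix_apply, Matrix.fromBlocks_apply₁₂, hE1, hE2, hu1, Matrix.of_apply]
        · rw [Matrix.submatrix_apply, Matrix.fromBlocks_apply₂₁, hE1, hE2, hu2, Pi.single_apply,
            if_neg, Matrix.zero_apply]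
          intro hh
          exact (hmem (e j)).mpr ⟨j, rfl⟩ (hh ▸ i.2)
        · rw [Matrix.submatrix_apply, Matrix.fromBlocks_apply₂₂, hE2, hE2, hu2, Pi.single_apply,
            Matrix.one_apply]
          by_cases hij : i = j
          · rw [if_pos hij, if_pos (by rw [hij])]
          · rw [if_neg hij, if_neg (fun hh => hij (Subtype.ext hh.symm))]
      rw [hblock, Matrix.det_fromBlocks_zero₂₁, Matrix.det_one, mul_one,
        ← Matrix.det_transpose]
      rfl
    refine Ideal.subset_span ⟨u, t, ht, fun i hi => ?_, hdet⟩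
    obtain ⟨a, rfl⟩ := (hmem i).mp hi
    rw [hu1]
    exact hz a

end

section Fitting

variable {R : Type u} [CommRing R] {M : Type v} [AddCommGroup M] [Module R M]

theorem ideal_eq_minors {ι κ : Type*} [Fintype ι] [DecidableEq ι] [Fintype κ] [DecidableEq κ]
    (x : ι → M) (hx : Submodule.span R (Set.range x) = ⊤) (k : ℕ)
    (hκ : Fintype.card κ = Fintype.card ι - k) :
    Fitt.ideal R M k = Ideal.span {d | ∃ (z : κ → (ι → R)) (e : κ → ι),
      (∀ j, ∑ i, z j i • x i = 0) ∧ d = (Matrix.of fun a b => z b (e a)).det} := by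
  rw [ideal_eq_fit x hx, fit_eq_minors x k hκ]

end Fitting

end K360.FittMinors
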