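import Groth.Agent.Fitt.K360.Minors
import Mathlib.Algebra.Homology.DerivedCategory.Ext.ExactSequences
import Mathlib.Algebra.Homology.DerivedCategory.Ext.Linear
import Mathlib.Algebra.Homology.DerivedCategory.Ext.EnoughProjectives
import Mathlib.Algebra.Homology.ShortComplex.ModuleCat
import Mathlib.Algebra.Category.ModuleCat.Projective
import Mathlib.Algebra.Category.ModuleCat.Ext.HasExt
import Mathlib.LinearAlgebra.FreeModule.StrongRankCondition

set_option autoImplicit false

/-!
# `Ext^1` of a module with a two-term resolution, and its Fitting ideal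
-/

namespace K360.ExtTwoTerm

open K360.FittBasic K360.FittMinors CategoryTheory
open Groth.Agent.Flat2C.FittingZero (rel mem_rel)

universe u

section Ext

variable {B : Type u} [CommRing B] {P₁ P₀ Ω Y : Type u} [AddCommGroup P₁] [Module B P₁]
  [AddCommGroup P₀] [Module B P₀] [AddCommGroup Ω] [Module B Ω] [AddCommGroup Y] [Module B Y]

/-- `Ext^1(Ω, Y)` is the cokernel of `Hom(P₀, Y) → Hom(P₁, Y)` if `0 → P₁ → P₀ → Ω → 0` is exact and `P₀` is
projective. -/
theorem exists_delta [Module.Projective B P₀] (α : P₁ →ₗ[B] P₀) (π : P₀ →ₗ[B] Ω)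
    (hα : Function.Injective α) (hπ : Function.Surjective π) (hex : Function.Exact α π) :
    ∃ δ : (P₁ →ₗ[B] Y) →ₗ[B] Abelian.Ext.{u} (ModuleCat.of B Ω) (ModuleCat.of B Y) 1,
      Function.Surjective δ ∧ ∀ φ, δ φ = 0 ↔ ∃ ψ : P₀ →ₗ[B] Y, ψ ∘ₗ α = φ := by
  let S := ModuleCat.shortComplexOfCompEqZero α π hex.linearMap_comp_eq_zero
  have hS : S.ShortExact := ModuleCat.shortComplex_shortExact S hex hα hπ
  have hP : Projective (ModuleCat.of B P₀) := (IsProjective.iff_projective _).mp inferInstance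
  let e : (P₁ →ₗ[B] Y) →ₗ[B] Abelian.Ext.{u} (ModuleCat.of B P₁) (ModuleCat.of B Y) 0 :=
    { toFun := fun φ => Abelian.Ext.mk₀ (ModuleCat.ofHom φ)
      map_add' := fun φ ψ => by
        rw [ModuleCat.ofHom_add, Abelian.Ext.mk₀_add]
      map_smul' := fun b φ => by
        rw [RingHom.id_apply]
        exact Abelian.Ext.mk₀_smul b (ModuleCat.ofHom φ) }
  refine ⟨(Abelian.Ext.precompOfLinear hS.extClass B (ModuleCat.of B Y) (add_zero 1)).comp e, ?_, ?_⟩
  · intro x
    have hx : (Abelian.Ext.mk₀ S.g).comp x (zero_add 1) = 0 :=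
      Abelian.Ext.eq_zero_of_projective _
    obtain ⟨x₁, hx₁⟩ := Abelian.Ext.contravariant_sequence_exact₃ hS _ x hx (add_zero 1)
    obtain ⟨f, rfl⟩ := (Abelian.Ext.mk₀_bijective (ModuleCat.of B P₁) (ModuleCat.of B Y)).2 x₁
    exact ⟨f.hom, hx₁⟩
  · intro φ
    constructor
    · intro h
      obtain ⟨x₂, hx₂⟩ := Abelian.Ext.contravariant_sequence_exact₁ hS _
        (Abelian.Ext.mk₀ (ModuleCat.ofHom φ)) (add_zero 1) h
      obtain ⟨f, rfl⟩ := (Abelian.Ext.mk₀_bijective (ModuleCat.of B P₀) (ModuleCat.of B Y)).2 x₂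
      refine ⟨f.hom, ?_⟩
      rw [Abelian.Ext.mk₀_comp_mk₀] at hx₂
      have h2 := (Abelian.Ext.mk₀_bijective (ModuleCat.of B P₁) (ModuleCat.of B Y)).1 hx₂
      exact congrArg ModuleCat.Hom.hom h2
    · rintro ⟨ψ, rfl⟩
      change hS.extClass.comp (Abelian.Ext.mk₀ (ModuleCat.ofHom (ψ ∘ₗ α))) (add_zero 1) = 0
      have h1 : Abelian.Ext.mk₀ (ModuleCat.ofHom (ψ ∘ₗ α)) =
          (Abelian.Ext.mk₀ S.f).comp (Abelian.Ext.mk₀ (ModuleCat.ofHom ψ)) (zero_add 0) := by
        rw [Abelian.Ext.mk₀_comp_mk₀]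
        rfl
      rw [h1, hS.extClass_comp_assoc]

end Ext

section Fitting

variable {B : Type u} [CommRing B] {c r : ℕ} {Ω : Type u} [AddCommGroup Ω] [Module B Ω]

/-- the ideal of maximal minors of a matrix given as a linear map -/
def minorIdeal (α : (Fin c → B) →ₗ[B] (Fin r → B)) : Ideal B :=
  Ideal.span {d | ∃ e : Fin c → Fin r, d = (Matrix.of fun a b => α (Pi.single b 1) (e a)).det}

theorem le_of_injective [Nontrivial B] (α : (Fin c → B) →ₗ[B] (Fin r → B))
    (hα : Function.Injective α) : c ≤ r := by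
  have := LinearMap.finrank_le_finrank_of_injective hα
  simpa using this

/-- The Fitting ideal of the cokernel of an injective `α : B^c → B^r`. -/
theorem ideal_coker (hcr : c ≤ r) (α : (Fin c → B) →ₗ[B] (Fin r → B)) (π : (Fin r → B) →ₗ[B] Ω)
    (hπ : Function.Surjective π) (hex : Function.Exact α π) :
    Fitt.ideal B Ω (r - c) = minorIdeal α := by
  classical
  let x : Fin r → Ω := fun i => π (Pi.single i 1)
  have hsum : ∀ v : Fin r → B, ∑ i, v i • x i = π v := by
    intro v
    have h1 : v = ∑ i, v i • (Pi.single i 1 : Fin r → B) := by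
      funext j
      simp [Finset.sum_apply, Pi.single_apply]
    conv_rhs => rw [h1]
    rw [map_sum]
    exact Finset.sum_congr rfl fun i _ => (map_smul _ _ _).symm
  have hx : Submodule.span B (Set.range x) = ⊤ := by
    rw [eq_top_iff]
    rintro y -
    obtain ⟨v, rfl⟩ := hπ y
    rw [← hsum]
    exact Submodule.sum_mem _ fun i _ => Submodule.smul_mem _ _ (Submodule.subset_span ⟨i, rfl⟩)
  have hαs : ∀ w : Fin c → B, α w = ∑ j, w j • α (Pi.single j 1) := by
    intro w
    have h1 : w = ∑ i, w i • (Pi.single i 1 : Fin c → B) := by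
      funext j
      simp [Finset.sum_apply, Pi.single_apply]
    conv_lhs => rw [h1]
    rw [map_sum]
    exact Finset.sum_congr rfl fun i _ => map_smul _ _ _
  rw [ideal_eq_minors (κ := Fin c) x hx (r - c) (by simp; omega)]
  apply le_antisymm
  · rw [Ideal.span_le]
    rintro _ ⟨z, e, hz, rfl⟩
    have h1 : ∀ b, ∃ w : Fin c → B, α w = z b := fun b => by
      have h2 := hz b
      rw [hsum] at h2
      exact (hex (z b)).mp h2
    choose w hw using h1
    have h3 : (Matrix.of fun a b => z b (e a)) =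
        (Matrix.of fun a j => α (Pi.single j 1) (e a)) * (Matrix.of fun j b => w b j) := by
      ext a b
      rw [Matrix.mul_apply, Matrix.of_apply, ← hw b, hαs (w b), Finset.sum_apply]
      exact Finset.sum_congr rfl fun j _ => by
        rw [Pi.smul_apply, smul_eq_mul, mul_comm]; rfl
    rw [h3, Matrix.det_mul]
    exact Ideal.mul_mem_right _ _ (Ideal.subset_span ⟨e, rfl⟩)
  · rw [minorIdeal, Ideal.span_le]
    rintro _ ⟨e, rfl⟩
    refine Ideal.subset_span ⟨fun b => α (Pi.single b 1), e, fun b => ?_, rfl⟩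
    rw [hsum]
    exact (hex _).mpr ⟨_, rfl⟩

/-- The zeroth Fitting ideal of a module which is the cokernel of the transpose of `α`. -/
theorem ideal_zero_of_transpose {T : Type*} [AddCommGroup T] [Module B T]
    (α : (Fin c → B) →ₗ[B] (Fin r → B)) (δ : ((Fin c → B) →ₗ[B] B) →ₗ[B] T)
    (hδ : Function.Surjective δ) (hker : ∀ φ, δ φ = 0 ↔ ∃ ψ : (Fin r → B) →ₗ[B] B, ψ ∘ₗ α = φ) :
    Fitt.ideal B T 0 = minorIdeal α := by
  classical
  let x : Fin c → T := fun j => δ (LinearMap.proj j)
  have hsum : ∀ v : Fin c → B, ∑ j, v j • x j = δ (∑ j, v j • LinearMap.proj j) := by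
    intro v
    rw [map_sum]
    exact Finset.sum_congr rfl fun i _ => (map_smul _ _ _).symm
  have hrep : ∀ {n : ℕ} (φ : (Fin n → B) →ₗ[B] B), φ = ∑ j, φ (Pi.single j 1) • LinearMap.proj j := by
    intro n φ
    refine LinearMap.pi_ext' fun j => LinearMap.ext_ring ?_
    simp [Pi.single_apply]
  have hx : Submodule.span B (Set.range x) = ⊤ := by
    rw [eq_top_iff]
    rintro y -
    obtain ⟨φ, rfl⟩ := hδ y
    rw [hrep φ, ← hsum]
    exact Submodule.sum_mem _ fun i _ => Submodule.smul_mem _ _ (Submodule.subset_span ⟨i, rfl⟩)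
  have hrel : Submodule.span B (Set.range fun (i : Fin r) (j : Fin c) => α (Pi.single j 1) i) =
      rel (R := B) x := by
    apply le_antisymm
    · rw [Submodule.span_le]
      rintro _ ⟨i, rfl⟩
      rw [SetLike.mem_coe, mem_rel, hsum, hker]
      refine ⟨LinearMap.proj i, ?_⟩
      rw [hrep (LinearMap.proj i ∘ₗ α)]
      rfl
    · intro v hv
      rw [mem_rel, hsum, hker] at hv
      obtain ⟨ψ, hψ⟩ := hv
      have h1 : v = ∑ i, ψ (Pi.single i 1) • (fun (j : Fin c) => α (Pi.single j 1) i) := by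
        funext j
        have h2 := LinearMap.congr_fun hψ (Pi.single j 1)
        rw [LinearMap.comp_apply, hrep ψ] at h2
        simp only [LinearMap.sum_apply, LinearMap.smul_apply, LinearMap.proj_apply,
          smul_eq_mul] at h2
        rw [Finset.sum_apply]
        simp only [Pi.smul_apply, smul_eq_mul]
        rw [h2]
        simp [Pi.single_apply]
      rw [h1]
      exact Submodule.sum_mem _ fun i _ => Submodule.smul_mem _ _ (Submodule.subset_span ⟨i, rfl⟩)
  rw [ideal_eq_fit x hx, fit_eq_span x _ _ hrel span_single, minorIdeal]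
  congr 1
  ext d
  constructor
  · rintro ⟨u, t, ht, hu, -, rfl⟩
    rw [Nat.le_zero, Finset.card_eq_zero] at ht
    subst ht
    choose e he using fun i => hu i (by simp)
    refine ⟨e, ?_⟩
    congr 1
    ext a b
    exact (congrFun (he a) b).symm
  · rintro ⟨e, rfl⟩
    exact ⟨_, ∅, le_rfl, fun i _ => ⟨e i, rfl⟩, fun i hi => by simp at hi, rfl⟩

/-- **Main comparison**: for an injective `α : B^c → B^r` with cokernel `Ω`,
`Fit_{r-c}(Ω) = Fit_0(Ext^1(Ω, B))`. -/
theorem ideal_eq_ideal_ext (α : (Fin c → B) →ₗ[B] (Fin r → B))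
    (π : (Fin r → B) →ₗ[B] Ω) (hα : Function.Injective α) (hπ : Function.Surjective π)
    (hex : Function.Exact α π) :
    Fitt.ideal B Ω (r - c) =
      Fitt.ideal B (Abelian.Ext.{u} (ModuleCat.of B Ω) (ModuleCat.of B B) 1) 0 := by
  rcases subsingleton_or_nontrivial B with h | h
  · have : Subsingleton (Ideal B) := inferInstance
    exact Subsingleton.elim _ _
  obtain ⟨δ, hδ, hker⟩ := exists_delta (Y := B) α π hα hπ hex
  rw [ideal_coker (le_of_injective α hα) α π hπ hex, ideal_zero_of_transpose α δ hδ hker]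

end Fitting

end K360.ExtTwoTerm
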