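import Groth.Agent.Fitt.K360.JacInj
import Groth.Agent.Fitt.K360.ExtTwoTerm

set_option autoImplicit false

/-!
# Fitting ideal of the differentials of a reduced complete intersection (S16187)
-/

namespace K360.CIClosed

open KaehlerDifferential Algebra MvPolynomial TensorProduct K360.JacPres K360.JacInj K360.ExtTwoTerm
open CategoryTheory

universe u

variable {k : Type u} [CommRing k] {r c : ℕ} {B : Type u} [CommRing B] [Algebra k B]

/-- the Jacobian map -/
noncomputable def jacMap (φ : MvPolynomial (Fin r) k →ₐ[k] B) (a : Fin c → MvPolynomial (Fin r) k) :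
    (Fin c → B) →ₗ[B] (Fin r → B) := Fintype.linearCombination B (fun j => jac φ (a j))

theorem exact_jacMap (φ : MvPolynomial (Fin r) k →ₐ[k] B) (hφ : Function.Surjective φ)
    (a : Fin c → MvPolynomial (Fin r) k)
    (hker : RingHom.ker φ.toRingHom = Ideal.span (Set.range a)) :
    Function.Exact (jacMap φ a) (pr φ) := by
  have haj : ∀ j, φ (a j) = 0 := fun j => by
    have : a j ∈ RingHom.ker φ.toRingHom := by rw [hker]; exact Ideal.subset_span ⟨j, rfl⟩
    exact this
  intro v
  rw [pr_eq_zero_iff φ hφ]
  constructor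
  · rintro ⟨f, hf, rfl⟩
    have h1 : f ∈ Ideal.span (Set.range a) := by rw [← hker]; exact hf
    rw [Ideal.mem_span_range_iff_exists_fun] at h1
    obtain ⟨g, rfl⟩ := h1
    refine ⟨fun j => φ (g j), ?_⟩
    rw [jacMap, Fintype.linearCombination_apply, jac_sum]
    refine Finset.sum_congr rfl fun j _ => ?_
    rw [jac_mul, haj, zero_smul, add_zero]
  · rintro ⟨b, rfl⟩
    choose g hg using fun j => hφ (b j)
    refine ⟨∑ j, g j * a j, ?_, ?_⟩
    · rw [map_sum]
      exact Finset.sum_eq_zero fun j _ => by rw [map_mul, haj, mul_zero]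
    · rw [jacMap, Fintype.linearCombination_apply, jac_sum]
      refine Finset.sum_congr rfl fun j _ => ?_
      rw [jac_mul, haj, zero_smul, add_zero, hg]

theorem main {k : Type u} [Field k] [PerfectField k] {B : Type u} [CommRing B] [Algebra k B]
    [IsReduced B] (φ : MvPolynomial (Fin r) k →ₐ[k] B) (hφ : Function.Surjective φ)
    (a : Fin c → MvPolynomial (Fin r) k)
    (ha : RingTheory.Sequence.IsWeaklyRegular (MvPolynomial (Fin r) k) (List.ofFn a))
    (hker : RingHom.ker φ.toRingHom = Ideal.span (Set.range a)) :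
    Fitt.ideal B (KaehlerDifferential k B) (r - c) =
      Fitt.ideal B (Abelian.Ext.{u} (ModuleCat.of B (KaehlerDifferential k B)) (ModuleCat.of B B) 1) 0 := by
  refine ideal_eq_ideal_ext (jacMap φ a) (pr φ) ?_ (pr_surjective φ hφ) (exact_jacMap φ hφ a hker)
  rw [injective_iff_map_eq_zero]
  intro b hb
  rw [jacMap, Fintype.linearCombination_apply] at hb
  exact jac_injective φ hφ a hker (fun g hg j => mem_of_sum_mem_sq a ha g hg j) b hb

end K360.CIClosed
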