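import Groth.Agent.Fitt.K360.LocFree
import Mathlib.LinearAlgebra.Matrix.Adjugate

set_option autoImplicit false

/-!
# Cramer's rule and principal Fitting ideals
-/

namespace K360.FittCramer

open TensorProduct K360.FittBasic K360.FittMinors K360.FittFiber K360.FittLocFree

universe u v

section Relations

variable {R : Type u} [CommRing R] {M : Type v} [AddCommGroup M] [Module R M]
variable {ι κ : Type} [Fintype ι] [DecidableEq ι] [Fintype κ] [DecidableEq κ]

/-- The relations obtained from `z` by Cramer's rule. -/
theorem exists_cramer (x : ι → M) (hx : Submodule.span R (Set.range x) = ⊤) (k : ℕ)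
    (hκ : Fintype.card κ = Fintype.card ι - k) (z : κ → (ι → R)) (e : κ → ι)
    (hz : ∀ j, ∑ i, z j i • x i = 0) :
    ∃ D : κ → ι → R, (∀ a i, D a i ∈ Fitt.ideal R M k) ∧
      (∀ a a', D a (e a') = if a = a' then (Matrix.of fun a b => z b (e a)).det else 0) ∧
      (∀ a, ∑ i, D a i • x i = 0) := by
  let B : Matrix κ κ R := Matrix.of fun b a => z b (e a)
  have hB : B.det = (Matrix.of fun a b => z b (e a)).det := by
    rw [← Matrix.det_transpose]; rfl
  refine ⟨fun a i => (B.adjugate * Matrix.of z) a i, fun a i => ?_, fun a a' => ?_, fun a => ?_⟩ <;>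
    beta_reduce
  · have h1 : (B.adjugate * Matrix.of z) a i =
        (Matrix.of fun a' b => z b (Function.update e a i a')).det := by
      have h2 : (B.adjugate * Matrix.of z) a i = Matrix.cramer B (fun b => z b i) a := by
        rw [Matrix.cramer_eq_adjugate_mulVec]
        simp [Matrix.mul_apply, Matrix.mulVec, dotProduct]
      rw [h2, Matrix.cramer_apply, ← Matrix.det_transpose]
      congr 1
      ext a' b
      rw [Matrix.transpose_apply, Matrix.updateCol_apply, Matrix.of_apply]
      by_cases h : a' = a
      · subst h; simp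
      · rw [if_neg h, Function.update_of_ne h]; rfl
    rw [h1, ideal_eq_minors x hx k hκ]
    exact Ideal.subset_span ⟨z, _, hz, rfl⟩
  · have h1 : (B.adjugate * Matrix.of z) a (e a') = (B.adjugate * B) a a' := by
      simp [Matrix.mul_apply, B]
    rw [h1, Matrix.adjugate_mul, Matrix.smul_apply, Matrix.one_apply, hB]
    split_ifs <;> simp
  · simp_rw [Matrix.mul_apply, Matrix.of_apply, Finset.sum_smul, mul_smul]
    rw [Finset.sum_comm]
    simp_rw [← Finset.smul_sum, hz, smul_zero, Finset.sum_const_zero]

omit [DecidableEq κ] in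
/-- splitting a sum according to membership in the range of an injective map -/
theorem sum_split {A : Type*} [AddCommMonoid A] (e : κ → ι) (he : Function.Injective e) (F : ι → A) :
    ∑ i, F i = (∑ a, F (e a)) + ∑ i : {i // i ∉ Set.range e}, F i.1 := by
  classical
  rw [← Fintype.sum_subtype_add_sum_subtype (fun i => i ∈ Set.range e) F]
  congr 1
  have h := (Fintype.sum_equiv (Equiv.ofInjective e he) (fun a => F (e a))
      (fun i => F i.1) (fun s => rfl)).symm
  convert h

omit [DecidableEq κ] in
theorem card_compl_range (e : κ → ι) (he : Function.Injective e) :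
    Fintype.card {i // i ∉ Set.range e} = Fintype.card ι - Fintype.card κ := by
  classical
  have h1 : Fintype.card (Set.range e) = Fintype.card κ := Set.card_range_of_injective he
  have h2 := Fintype.card_subtype_compl (fun i => i ∈ Set.range e)
  have h3 : Fintype.card {i // i ∈ Set.range e} = Fintype.card κ := h1
  rw [h3] at h2
  exact h2

variable {N : Type*} [AddCommGroup N] [Module R N]

/-- If all the minors are divisible by `f` and `d = g f` is one of them, then in a quotient of `M` in which
the `f`-torsion dies the multiples `g x_{e a}` are combinations of the `x_i`, `i ∉ range e`. -/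
theorem smul_mem_span (x : ι → M) (hx : Submodule.span R (Set.range x) = ⊤) (k : ℕ)
    (hκ : Fintype.card κ = Fintype.card ι - k) (z : κ → (ι → R)) (e : κ → ι)
    (he : Function.Injective e)
    (hz : ∀ j, ∑ i, z j i • x i = 0) (f g : R) (hf : Fitt.ideal R M k ≤ Ideal.span {f})
    (hd : (Matrix.of fun a b => z b (e a)).det = g * f)
    (φ : M →ₗ[R] N) (hφ : Function.Surjective φ) (h1 : ∀ y, f • y = 0 → φ y = 0) (y : N) :
    g • y ∈ Submodule.span R (Set.range fun i : {i // i ∉ Set.range e} => φ (x i.1)) := by
  classical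
  obtain ⟨D, hD, hDe, hDx⟩ := exists_cramer x hx k hκ z e hz
  have hC : ∀ a i, ∃ c, D a i = c * f := fun a i =>
    (Ideal.mem_span_singleton'.mp (hf (hD a i))).imp fun c hc => hc.symm
  choose C hC using hC
  have hgen : ∀ i, g • φ (x i) ∈ Submodule.span R
      (Set.range fun i : {i // i ∉ Set.range e} => φ (x i.1)) := by
    intro i
    by_cases hi : i ∈ Set.range e
    · obtain ⟨a, rfl⟩ := hi
      have h2 : f • (g • x (e a) + ∑ i : {i // i ∉ Set.range e}, C a i.1 • x i.1) = 0 := by
        rw [← hDx a, sum_split e he, Finset.sum_eq_single a (fun a' _ ha' => by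
          rw [hDe, if_neg ha'.symm, zero_smul]) (fun h => absurd (Finset.mem_univ a) h), hDe,
          if_pos rfl, hd, smul_add, smul_smul, mul_comm f g, Finset.smul_sum]
        congr 1
        refine Finset.sum_congr rfl fun i _ => ?_
        rw [hC, smul_smul, mul_comm]
      have h3 := h1 _ h2
      rw [map_add, map_smul, map_sum] at h3
      rw [eq_neg_of_add_eq_zero_left h3]
      refine Submodule.neg_mem _ (Submodule.sum_mem _ fun i _ => ?_)
      rw [map_smul]
      exact Submodule.smul_mem _ _ (Submodule.subset_span ⟨i, rfl⟩)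
    · exact Submodule.smul_mem _ _ (Submodule.subset_span ⟨⟨i, hi⟩, rfl⟩)
  obtain ⟨m, rfl⟩ := hφ y
  have hm : m ∈ Submodule.span R (Set.range x) := by rw [hx]; trivial
  induction hm using Submodule.span_induction with
  | mem m hm => obtain ⟨i, rfl⟩ := hm; exact hgen i
  | zero => simp
  | add m m' _ _ hm hm' => rw [map_add, smul_add]; exact Submodule.add_mem _ hm hm'
  | smul c m _ hm => rw [map_smul, smul_comm]; exact Submodule.smul_mem _ _ hm

/-- The relations among the remaining generators. -/
theorem relation_torsion (x : ι → M) (hx : Submodule.span R (Set.range x) = ⊤) (k : ℕ)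
    (hkι : k ≤ Fintype.card ι)
    (hκ : Fintype.card κ = Fintype.card ι - k) (z : κ → (ι → R)) (e : κ → ι)
    (he : Function.Injective e)
    (hz : ∀ j, ∑ i, z j i • x i = 0) (hk : k = 0 ∨ Fitt.ideal R M (k - 1) = ⊥)
    (c : {i // i ∉ Set.range e} → R) (hc : ∑ i, c i • x i.1 = 0) (i₀ : {i // i ∉ Set.range e}) :
    (Matrix.of fun a b => z b (e a)).det ^ Fintype.card κ * c i₀ = 0 := by
  classical
  have hk0 : k ≠ 0 := by
    intro h
    have h1 := card_compl_range e he
    have h2 : 0 < Fintype.card {i // i ∉ Set.range e} := Fintype.card_pos_iff.mpr ⟨i₀⟩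
    omega
  have hk1 := hk.resolve_left hk0
  obtain ⟨D, hD, hDe, hDx⟩ := exists_cramer x hx k hκ z e hz
  rw [ideal_eq_minors (κ := κ ⊕ Unit) x hx (k - 1) (by
    rw [Fintype.card_sum, Fintype.card_unit]; omega), Ideal.span_eq_bot] at hk1
  let c' : ι → R := fun i => if hi : i ∈ Set.range e then 0 else c ⟨i, hi⟩
  have hc'1 : ∀ a, c' (e a) = 0 := fun a => by simp [c']
  have hc'2 : ∀ i : {i // i ∉ Set.range e}, c' i.1 = c i := fun i => by
    have := i.2
    simp only [c', this, dif_neg, not_false_iff]
  have hc' : ∑ i, c' i • x i = 0 := by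
    rw [sum_split e he]
    simp only [hc'1, zero_smul, Finset.sum_const_zero, zero_add, hc'2, hc]
  have h1 := hk1 _ ⟨Sum.elim (fun a => D a) (fun _ => c'), Sum.elim e (fun _ => i₀.1), by
    rintro (a | _)
    · exact hDx a
    · exact hc', rfl⟩
  rw [← Matrix.det_transpose] at h1
  have hblock : (Matrix.of fun a b => Sum.elim (fun a => D a) (fun _ : Unit => c') b
      (Sum.elim e (fun _ : Unit => i₀.1) a)).transpose = Matrix.fromBlocks
        ((Matrix.of fun a b => z b (e a)).det • (1 : Matrix κ κ R))
        (Matrix.of fun a (_ : Unit) => D a i₀.1) 0 (Matrix.of fun _ _ => c i₀) := by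
    ext a b
    rcases a with a | a <;> rcases b with b | b
    · simp only [Matrix.transpose_apply, Matrix.of_apply, Sum.elim_inl, Matrix.fromBlocks_apply₁₁,
        Matrix.smul_apply, Matrix.one_apply, hDe]
      split_ifs <;> simp
    · rfl
    · simp only [Matrix.transpose_apply, Matrix.of_apply, Sum.elim_inr, Sum.elim_inl,
        Matrix.fromBlocks_apply₂₁, hc'1, Matrix.zero_apply]
    · simp only [Matrix.transpose_apply, Matrix.of_apply, Sum.elim_inr,
        Matrix.fromBlocks_apply₂₂, hc'2]
  rw [hblock, Matrix.det_fromBlocks_zero₂₁, Matrix.det_smul, Matrix.det_one, mul_one,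
    Matrix.det_unique (n := Unit)] at h1
  exact h1

omit [Fintype ι] [DecidableEq ι] in
/-- `det ≠ 0` forces the selection to be injective -/
theorem injective_of_det_ne_zero (z : κ → (ι → R)) (e : κ → ι)
    (h : (Matrix.of fun a b => z b (e a)).det ≠ 0) : Function.Injective e := by
  by_contra hinj
  simp only [Function.Injective, not_forall] at hinj
  obtain ⟨i, j, hij, hne⟩ := hinj
  refine h (Matrix.det_zero_of_row_eq (i := i) (j := j) hne ?_)
  funext b
  simp [hij]

end Relations

section Pad

variable {R : Type u} [CommRing R] {M : Type v} [AddCommGroup M] [Module R M]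

theorem exists_pad {ι : Type*} [Fintype ι] (y : ι → M) (hy : Submodule.span R (Set.range y) = ⊤)
    (k : ℕ) (hk : Fintype.card ι ≤ k) : ∃ g : Fin k → M, Submodule.span R (Set.range g) = ⊤ := by
  classical
  let e := (Fintype.equivFin ι).symm
  refine ⟨fun i => if hi : (i : ℕ) < Fintype.card ι then y (e ⟨i, hi⟩) else 0, ?_⟩
  rw [eq_top_iff, ← hy, Submodule.span_le]
  rintro _ ⟨i, rfl⟩
  have hlt := (e.symm i).2
  refine Submodule.subset_span ⟨⟨e.symm i, hlt.trans_le hk⟩, ?_⟩
  simp only [Fin.eta, hlt, dif_pos]
  congr 1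
  exact e.apply_symm_apply _

theorem exists_generators_ge [Module.Finite R M] (k : ℕ) :
    ∃ (n : ℕ) (x : Fin n → M), k ≤ n ∧ Submodule.span R (Set.range x) = ⊤ := by
  obtain ⟨n, x, hx⟩ := Module.Finite.exists_fin (R := R) (M := M)
  obtain ⟨g, hg⟩ := exists_pad x hx (max k n) (by simp)
  exact ⟨max k n, g, le_max_left _ _, hg⟩

end Pad

end K360.FittCramer
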