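import Groth.Agent.Fitt.K360.Strict

set_option autoImplicit false

/-!
# Blowing up makes a finite module locally free away from `V(f)` locally free (S6924)
-/

namespace K360.FittFPCover

open TensorProduct K360.FittBasic K360.FittMinors K360.FittFiber K360.FittLocFree K360.FittCramer
  K360.FittPrincipal K360.FittStrict

universe u

section Ideal

variable {R : Type u} [CommRing R] {P : Type u} [AddCommGroup P] [Module R P]

/-- A submodule whose localization is finitely generated is, up to multiplication by elements of `S`,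
contained in a finitely generated submodule of itself. -/
theorem exists_fg_sub (S : Submonoid R) (K : Submodule R P) (h : (K.localized S).FG) :
    ∃ K' ≤ K, K'.FG ∧ ∀ y ∈ K, ∃ s ∈ S, s • y ∈ K' := by
  classical
  obtain ⟨T, hT⟩ := h
  have hmem : ∀ t : T, ∃ m ∈ K, ∃ s : S, IsLocalizedModule.mk' (LocalizedModule.mkLinearMap S P) m s =
      t.1 := by
    intro t
    have : t.1 ∈ K.localized S := hT ▸ Submodule.subset_span t.2
    exact this
  choose m hm s hs using hmem
  refine ⟨Submodule.span R (Set.range m), ?_, Submodule.fg_span (Set.finite_range m), ?_⟩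
  · rw [Submodule.span_le]
    rintro _ ⟨t, rfl⟩
    exact hm t
  · intro y hy
    have h1 : K.localized S ≤ (Submodule.span R (Set.range m)).localized S := by
      rw [← hT, Submodule.span_le]
      intro t ht
      exact ⟨m ⟨t, ht⟩, Submodule.subset_span ⟨_, rfl⟩, s ⟨t, ht⟩, hs ⟨t, ht⟩⟩
    have h2 : LocalizedModule.mkLinearMap S P y ∈ K.localized S :=
      ⟨y, hy, 1, by simp⟩
    obtain ⟨y', hy', s', hs'⟩ := h1 h2
    have h3 : LocalizedModule.mkLinearMap S P y' = LocalizedModule.mkLinearMap S P (s' • y) := by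
      rw [IsLocalizedModule.mk'_eq_iff] at hs'
      rw [hs', Submonoid.smul_def, Submonoid.smul_def, map_smul]
    obtain ⟨c, hc⟩ := (IsLocalizedModule.eq_iff_exists S (LocalizedModule.mkLinearMap S P)).mp h3
    refine ⟨c * s', (c * s').2, ?_⟩
    rw [mul_smul]
    have : (c : R) • (s' : R) • y = (c : R) • y' := hc.symm
    rw [this]
    exact Submodule.smul_mem _ _ hy'

/-- The ideal of the `g` such that, up to `g`-powers, `K` is finitely generated. -/
def fgIdeal (K : Submodule R P) : Ideal R where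
  carrier := {g | ∃ K' ≤ K, K'.FG ∧ ∀ y ∈ K, ∃ s : ℕ, g ^ s • y ∈ K'}
  zero_mem' := ⟨⊥, bot_le, Submodule.fg_bot, fun y _ => ⟨1, by simp⟩⟩
  add_mem' := by
    rintro g g' ⟨K₁, hK₁, hfg₁, h₁⟩ ⟨K₂, hK₂, hfg₂, h₂⟩
    refine ⟨K₁ ⊔ K₂, sup_le hK₁ hK₂, hfg₁.sup hfg₂, fun y hy => ?_⟩
    obtain ⟨s, hs⟩ := h₁ y hy
    obtain ⟨s', hs'⟩ := h₂ y hy
    have h3 : g ∈ ((K₁ ⊔ K₂).colon {y}).radical :=
      ⟨s, Submodule.mem_colon_singleton.mpr (le_sup_left (a := K₁) hs)⟩
    have h4 : g' ∈ ((K₁ ⊔ K₂).colon {y}).radical :=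
      ⟨s', Submodule.mem_colon_singleton.mpr (le_sup_right (a := K₁) hs')⟩
    obtain ⟨n, hn⟩ := Ideal.add_mem _ h3 h4
    exact ⟨n, Submodule.mem_colon_singleton.mp hn⟩
  smul_mem' := by
    rintro c g ⟨K₁, hK₁, hfg₁, h₁⟩
    refine ⟨K₁, hK₁, hfg₁, fun y hy => ?_⟩
    obtain ⟨s, hs⟩ := h₁ y hy
    refine ⟨s, ?_⟩
    rw [smul_eq_mul, mul_pow, mul_smul]
    exact Submodule.smul_mem _ _ hs

theorem mem_fgIdeal {K : Submodule R P} {g : R} :
    g ∈ fgIdeal K ↔ ∃ K' ≤ K, K'.FG ∧ ∀ y ∈ K, ∃ s : ℕ, g ^ s • y ∈ K' := Iff.rfl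

theorem radical_fgIdeal (K : Submodule R P) : (fgIdeal K).radical = fgIdeal K := by
  refine le_antisymm ?_ Ideal.le_radical
  rintro g ⟨n, K', hK', hfg, h⟩
  refine ⟨K', hK', hfg, fun y hy => ?_⟩
  obtain ⟨s, hs⟩ := h y hy
  exact ⟨n * s, by rwa [pow_mul]⟩

theorem mem_fgIdeal_of_local {K : Submodule R P} {f : R}
    (h : ∀ (p : Ideal R) [p.IsPrime], f ∉ p → ∃ g, g ∉ p ∧ g ∈ fgIdeal K) : f ∈ fgIdeal K := by
  by_contra hcon
  rw [← radical_fgIdeal, Ideal.radical_eq_sInf, Ideal.mem_sInf] at hcon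
  push Not at hcon
  obtain ⟨p, ⟨hle, hp⟩, hfp⟩ := hcon
  obtain ⟨g, hg, hgI⟩ := h p hfp
  exact hg (hle hgI)

end Ideal

section Main

variable {R : Type u} [CommRing R] {M : Type u} [AddCommGroup M] [Module R M] [Module.Finite R M]

/-- The kernel of a presentation is finitely generated on `D(g)` if `M_g` is free. -/
theorem mem_fgIdeal_ker {n : ℕ} (π : (Fin n → R) →ₗ[R] M) (hπ : Function.Surjective π) (g : R)
    (hg : Module.Free (Localization.Away g) (LocalizedModule (Submonoid.powers g) M)) :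
    g ∈ fgIdeal (LinearMap.ker π) := by
  have h1 : Module.Finite (Localization.Away g) (LocalizedModule (Submonoid.powers g) M) :=
    inferInstanceAs (Module.Finite (Localization (Submonoid.powers g))
      (LocalizedModule (Submonoid.powers g) M))
  have h2 : Module.FinitePresentation (Localization.Away g)
      (LocalizedModule (Submonoid.powers g) M) := Module.finitePresentation_of_projective _ _
  have h3 := LinearMap.localized'_ker_eq_ker_localizedMap (Localization (Submonoid.powers g))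
    (Submonoid.powers g) (LocalizedModule.mkLinearMap (Submonoid.powers g) (Fin n → R))
    (LocalizedModule.mkLinearMap (Submonoid.powers g) M) π
  have h4 : ((LinearMap.ker π).localized (Submonoid.powers g)).FG := by
    refine (congrArg Submodule.FG h3).mpr ?_
    have : Module.FinitePresentation (Localization (Submonoid.powers g))
      (LocalizedModule (Submonoid.powers g) M) := h2
    refine Module.FinitePresentation.fg_ker _ ?_
    exact IsLocalizedModule.map_surjective (Submonoid.powers g)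
      (LocalizedModule.mkLinearMap (Submonoid.powers g) (Fin n → R))
      (LocalizedModule.mkLinearMap (Submonoid.powers g) M) π hπ
  obtain ⟨K', hK', hfg, h⟩ := exists_fg_sub (Submonoid.powers g) _ h4
  refine ⟨K', hK', hfg, fun y hy => ?_⟩
  obtain ⟨_, ⟨s, rfl⟩, hs⟩ := h y hy
  exact ⟨s, hs⟩

/-- A finitely presented module which surjects onto `M` with `f`-power torsion kernel. -/
theorem exists_fp_cover (f : R) (r : ℕ)
    (hf : ∀ (p : Ideal R) [p.IsPrime], f ∉ p → ∃ g : R, g ∉ p ∧
      Module.Free (Localization.Away g) (LocalizedModule (Submonoid.powers g) M) ∧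
        Module.finrank (Localization.Away g) (LocalizedModule (Submonoid.powers g) M) = r) :
    ∃ (M' : Type u) (_ : AddCommGroup M') (_ : Module R M') (_ : Module.FinitePresentation R M')
      (π : M' →ₗ[R] M), Function.Surjective π ∧ ∀ y, π y = 0 → ∃ n : ℕ, f ^ n • y = 0 := by
  obtain ⟨n, π, hπ⟩ := Module.Finite.exists_fin' R M
  have h1 : f ∈ fgIdeal (LinearMap.ker π) := mem_fgIdeal_of_local fun p _ hfp => by
    obtain ⟨g, hg, hfree, -⟩ := hf p hfp
    exact ⟨g, hg, mem_fgIdeal_ker π hπ g hfree⟩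
  obtain ⟨K', hK', hfg, h⟩ := h1
  refine ⟨(Fin n → R) ⧸ K', inferInstance, inferInstance, ?_, K'.liftQ π hK', ?_, ?_⟩
  · exact Module.finitePresentation_of_surjective K'.mkQ (Submodule.mkQ_surjective _)
      (by rwa [Submodule.ker_mkQ])
  · intro y
    obtain ⟨v, rfl⟩ := hπ y
    exact ⟨Submodule.Quotient.mk v, Submodule.liftQ_apply _ _ _⟩
  · intro y hy
    obtain ⟨v, rfl⟩ := Submodule.Quotient.mk_surjective _ y
    rw [Submodule.liftQ_apply] at hy
    obtain ⟨s, hs⟩ := h v hy
    exact ⟨s, by rwa [← Submodule.Quotient.mk_smul, Submodule.Quotient.mk_eq_zero]⟩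

omit [Module.Finite R M] in
/-- Fitting ideals under a surjection with `f`-power torsion kernel. -/
theorem exists_pow_mul_mem {M' : Type u} [AddCommGroup M'] [Module R M'] [Module.Finite R M']
    (π : M' →ₗ[R] M) (hπ : Function.Surjective π) (f : R)
    (hker : ∀ y, π y = 0 → ∃ n : ℕ, f ^ n • y = 0) (k : ℕ) :
    ∀ d ∈ Fitt.ideal R M k, ∃ n : ℕ, f ^ n * d ∈ Fitt.ideal R M' k := by
  intro d hd
  obtain ⟨n, x, hx⟩ := Module.Finite.exists_fin (R := R) (M := M')
  rw [ideal_eq_fit (π ∘ x) (span_image_eq_top x hx π hπ), fit] at hd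
  induction hd using Submodule.span_induction with
  | mem d hd =>
    obtain ⟨a, t, ht, ha, rfl⟩ := hd
    have h1 : ∀ i : Fin n, ∃ N : ℕ, i ∉ t → f ^ N • ∑ j, a i j • x j = 0 := by
      intro i
      by_cases hi : i ∈ t
      · exact ⟨0, fun h => absurd hi h⟩
      · obtain ⟨N, hN⟩ := hker (∑ j, a i j • x j) (by
          rw [map_sum, ← ha i hi]
          exact Finset.sum_congr rfl fun j _ => map_smul _ _ _)
        exact ⟨N, fun _ => hN⟩
    choose N hN using h1
    refine ⟨(∑ i, N i) * n, ?_⟩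
    have h2 : f ^ ((∑ i, N i) * n) * a.det = (f ^ (∑ i, N i) • a).det := by
      rw [Matrix.det_smul, ← pow_mul, Fintype.card_fin]
    rw [h2, ideal_eq_fit x hx]
    refine Ideal.subset_span ⟨_, t, ht, fun i hi => ?_, rfl⟩
    have h3 : ∑ j, (f ^ (∑ i, N i) • a) i j • x j = f ^ (∑ i, N i) • ∑ j, a i j • x j := by
      rw [Finset.smul_sum]
      refine Finset.sum_congr rfl fun j _ => ?_
      rw [Matrix.smul_apply, smul_assoc]
    rw [h3, ← Finset.add_sum_erase _ _ (Finset.mem_univ i), add_comm, pow_add, mul_smul, hN i hi,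
      smul_zero]
  | zero => exact ⟨0, by simp⟩
  | add d d' _ _ h h' =>
    obtain ⟨m, hm⟩ := h
    obtain ⟨m', hm'⟩ := h'
    refine ⟨m + m', ?_⟩
    rw [mul_add]
    refine Ideal.add_mem _ ?_ ?_
    · rw [pow_add, mul_right_comm, mul_comm]; exact Ideal.mul_mem_left _ _ hm
    · rw [pow_add, mul_assoc]; exact Ideal.mul_mem_left _ _ hm'
  | smul c d _ h =>
    obtain ⟨m, hm⟩ := h
    refine ⟨m, ?_⟩
    rw [smul_eq_mul, mul_left_comm]
    exact Ideal.mul_mem_left _ _ hm

omit [Module.Finite R M] in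
/-- elements in the kernel of a base change of a surjection with `f`-power torsion kernel -/
theorem ker_baseChange_torsion {M' : Type u} [AddCommGroup M'] [Module R M']
    (π : M' →ₗ[R] M) (hπ : Function.Surjective π) (f : R)
    (hker : ∀ y, π y = 0 → ∃ n : ℕ, f ^ n • y = 0) (R₁ : Type u) [CommRing R₁] [Algebra R R₁]
    (y : R₁ ⊗[R] M') (hy : π.baseChange R₁ y = 0) :
    ∃ n : ℕ, (algebraMap R R₁ f) ^ n • y = 0 := by
  have hex := lTensor_exact R₁ (f := (LinearMap.ker π).subtype) (g := π)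
    (LinearMap.exact_subtype_ker_map π) hπ
  obtain ⟨w, rfl⟩ := (hex y).mp hy
  induction w using TensorProduct.induction_on with
  | zero => exact ⟨0, by simp⟩
  | tmul c k =>
    obtain ⟨n, hn⟩ := hker k.1 k.2
    refine ⟨n, ?_⟩
    rw [LinearMap.lTensor_tmul, Submodule.subtype_apply, ← map_pow, algebraMap_smul, ← tmul_smul, hn,
      tmul_zero]
  | add w w' h h' =>
    rw [map_add, map_add] at hy
    have hz : ∀ w, π.baseChange R₁ ((LinearMap.ker π).subtype.lTensor R₁ w) = 0 := fun w =>
      (hex _).mpr ⟨w, rfl⟩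
    obtain ⟨n, hn⟩ := h (hz w)
    obtain ⟨n', hn'⟩ := h' (hz w')
    refine ⟨n + n', ?_⟩
    rw [map_add, smul_add, pow_add, mul_smul, mul_smul, hn', smul_zero, add_zero, smul_comm, hn,
      smul_zero]

theorem main (f : R) (r : ℕ)
    (hf : ∀ (p : Ideal R) [p.IsPrime], f ∉ p → ∃ g : R, g ∉ p ∧
      Module.Free (Localization.Away g) (LocalizedModule (Submonoid.powers g) M) ∧
        Module.finrank (Localization.Away g) (LocalizedModule (Submonoid.powers g) M) = r) :
    ∃ I : Ideal R, I.FG ∧ I.radical = (Ideal.span {f}).radical ∧ ∀ a ∈ I, ∀ (R₁ : Type u)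
      [CommRing R₁] [Algebra R R₁] (_ : R₁ ≃ₐ[R] ↥(BlowUp.affineAlgebra R I a)),
      IsLocFree R₁ ((R₁ ⊗[R] M) ⧸ FlatCA.powTorsion R₁ (algebraMap R R₁ a) (R₁ ⊗[R] M)) r := by
  obtain ⟨M', _, _, hfp, π, hπ, hker⟩ := exists_fp_cover (M := M) f r hf
  have hfin : Module.Finite R M' := inferInstance
  refine ⟨Ideal.span {f} * Fitt.ideal R M' r, ?_, ?_, ?_⟩
  · exact Submodule.FG.mul ⟨{f}, by simp⟩ (ideal_fg r)
  · rw [Ideal.radical_mul, inf_eq_left, Ideal.radical_le_radical_iff, Ideal.span_le,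
      Set.singleton_subset_iff, SetLike.mem_coe, Ideal.radical_eq_sInf, Ideal.mem_sInf]
    rintro p ⟨hle, hp⟩
    by_contra hfp
    obtain ⟨g, hg, hfree, hrank⟩ := hf p hfp
    have := nontrivial_away hg
    have h1 : Fitt.ideal (Localization.Away g) (LocalizedModule (Submonoid.powers g) M) r = ⊤ :=
      (fitt_of_free (A := Localization.Away g) (N := LocalizedModule (Submonoid.powers g) M) r).2
        (by rw [hrank])
    have h2 := not_le_of_away hg h1
    obtain ⟨d, hd, hdp⟩ := SetLike.not_le_iff_exists.mp h2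
    obtain ⟨n, hn⟩ := exists_pow_mul_mem π hπ f hker r d hd
    rcases hp.mem_or_mem (hle hn) with h3 | h3
    · exact hfp (hp.mem_of_pow_mem n h3)
    · exact hdp h3
  · intro a ha R₁ _ _ e
    have hnzd := nzd_of_equiv e
    have hmap := map_eq_span_of_equiv ha e
    rw [Ideal.map_mul, Ideal.map_span, Set.image_singleton] at hmap
    -- `a = f j` with `j` a generator of the Fitting ideal
    have h1 : algebraMap R R₁ a ∈ Ideal.span {algebraMap R R₁ f} *
        (Fitt.ideal R M' r).map (algebraMap R R₁) := hmap ▸ Ideal.mem_span_singleton_self _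
    rw [Ideal.mem_span_singleton_mul] at h1
    obtain ⟨j, hj, hja⟩ := h1
    have h2 : algebraMap R R₁ f ∈ nonZeroDivisors R₁ ∧ j ∈ nonZeroDivisors R₁ := by
      rw [← hja] at hnzd
      exact mul_mem_nonZeroDivisors.mp hnzd
    have h3 : Fitt.ideal R₁ (R₁ ⊗[R] M') r = Ideal.span {j} := by
      rw [ideal_baseChange]
      refine le_antisymm (fun j' hj' => ?_) (by
        rw [Ideal.span_le, Set.singleton_subset_iff]; exact hj)
      have h4 : algebraMap R R₁ f * j' ∈ Ideal.span {algebraMap R R₁ a} := by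
        rw [← hmap]
        exact Ideal.mul_mem_mul (Ideal.mem_span_singleton_self _) hj'
      obtain ⟨c, hc⟩ := Ideal.mem_span_singleton'.mp h4
      rw [Ideal.mem_span_singleton']
      refine ⟨c, ?_⟩
      have h5 : algebraMap R R₁ f * (c * j) = algebraMap R R₁ f * j' := by
        rw [← hc, ← hja]; ring
      exact (mul_cancel_left_mem_nonZeroDivisors h2.1).mp h5
    refine isLocFree_quotient h2.2 h3 ?_
      ((FlatCA.powTorsion R₁ (algebraMap R R₁ a) (R₁ ⊗[R] M)).mkQ ∘ₗ π.baseChange R₁)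
      ?_ (fun y hy => ?_) (fun y hy => ?_)
    · by_cases hr : r = 0
      · exact Or.inl hr
      right
      rw [ideal_baseChange]
      refine map_eq_bot_of_torsion h2.1 fun d hd => exists_pow_mul_eq_zero fun p hp hfp => ?_
      obtain ⟨g, hg, hfree, hrank⟩ := hf p hfp
      have := nontrivial_away hg
      have h4 : Fitt.ideal (Localization.Away g) (LocalizedModule (Submonoid.powers g) M) (r - 1) = ⊥ :=
        (fitt_of_free (A := Localization.Away g) (N := LocalizedModule (Submonoid.powers g) M)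
          (r - 1)).1 (by omega)
      have h5 := ideal_localizedModule (M := M) (Submonoid.powers g) (r - 1)
      have h6 : algebraMap R (Localization.Away g) d = 0 := by
        have h7 := Ideal.mem_map_of_mem (algebraMap R (Localization.Away g))
          (ideal_le_of_surjective π hπ (r - 1) hd)
        have h8 := h5.symm.trans h4
        change _ = (⊥ : Ideal (Localization.Away g)) at h8
        rwa [h8, Submodule.mem_bot] at h7
      obtain ⟨⟨_, n, rfl⟩, hs⟩ := (IsLocalization.map_eq_zero_iff (Submonoid.powers g)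
        (Localization.Away g) d).mp h6
      exact ⟨g ^ n, fun h => hg (hp.mem_of_pow_mem n h), hs⟩
    · rw [LinearMap.coe_comp]
      exact (Submodule.mkQ_surjective _).comp (LinearMap.lTensor_surjective _ hπ)
    · rw [LinearMap.comp_apply, Submodule.mkQ_apply, Submodule.Quotient.mk_eq_zero, mem_powTorsion]
      refine ⟨1, ?_⟩
      rw [pow_one, ← map_smul, ← hja, mul_smul, hy, smul_zero, map_zero]
    · rw [LinearMap.comp_apply, Submodule.mkQ_apply, Submodule.Quotient.mk_eq_zero,
        mem_powTorsion] at hy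
      obtain ⟨n, hn⟩ := hy
      rw [← map_smul] at hn
      obtain ⟨m, hm⟩ := ker_baseChange_torsion π hπ f hker R₁ _ hn
      exact ⟨_, mul_mem (pow_mem h2.1 m) (pow_mem hnzd n), by rw [mul_smul]; exact hm⟩

end Main

end K360.FittFPCover
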