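import Groth.Agent.Fitt.K360.CIClosed
import Groth.Agent.Ega1.LimitSystem
import Mathlib.RingTheory.AdicCompletion.Completeness

set_option autoImplicit false

/-!
# The completed differentials of a formal complete intersection: the two-term presentation
-/

namespace K360.FormalCI

open KaehlerDifferential Algebra MvPolynomial TensorProduct K360.JacPres K360.JacInj K360.ExtTwoTerm
open CategoryTheory

universe u

section Smul

variable {B : Type u} [CommRing B] (t : B) {M : Type*} [AddCommGroup M] [Module B M]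

theorem mem_pow_smul_top (n : ℕ) (x : M) :
    x ∈ (Ideal.span {t} ^ n • ⊤ : Submodule B M) ↔ ∃ z : M, x = t ^ n • z := by
  rw [Ideal.span_singleton_pow, Submodule.ideal_span_singleton_smul,
    Submodule.mem_smul_pointwise_iff_exists]
  constructor
  · rintro ⟨z, -, rfl⟩; exact ⟨z, rfl⟩
  · rintro ⟨z, rfl⟩; exact ⟨z, trivial, rfl⟩

theorem mem_smul_top (x : M) :
    x ∈ (Ideal.span {t} • ⊤ : Submodule B M) ↔ ∃ z : M, x = t • z := by
  have := mem_pow_smul_top t 1 x
  simpa using this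

theorem eq_zero_of_forall [IsHausdorff (Ideal.span {t}) M] (x : M) (h : ∀ n : ℕ, ∃ z, x = t ^ n • z) :
    x = 0 := by
  refine (IsHausdorff.haus (I := Ideal.span {t}) ‹_›) x fun n => ?_
  rw [SModEq.zero, mem_pow_smul_top]
  exact h n

/-- limits -/
theorem exists_limit [IsPrecomplete (Ideal.span {t}) M] (f : ℕ → M)
    (hf : ∀ n, ∃ z, f (n + 1) - f n = t ^ n • z) : ∃ L, ∀ n, ∃ z, L - f n = t ^ n • z := by
  have h1 : ∀ {m n : ℕ}, m ≤ n → f m ≡ f n [SMOD (Ideal.span {t} ^ m • ⊤ : Submodule B M)] := by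
    intro m n hmn
    induction n, hmn using Nat.le_induction with
    | base => rfl
    | succ n hmn ih =>
      refine ih.trans (SModEq.symm ?_)
      rw [SModEq.sub_mem, mem_pow_smul_top]
      obtain ⟨z, hz⟩ := hf n
      refine ⟨t ^ (n - m) • z, ?_⟩
      rw [hz, smul_smul, ← pow_add]
      congr 2
      omega
  obtain ⟨L, hL⟩ := IsPrecomplete.prec (I := Ideal.span {t}) ‹_› h1
  refine ⟨L, fun n => ?_⟩
  have h2 := (hL n).symm
  rwa [SModEq.sub_mem, mem_pow_smul_top] at h2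

end Smul

section Setup

variable {R₀ : Type u} [CommRing R₀] (t₀ : R₀) {r c : ℕ} {B : Type u} [CommRing B] [Algebra R₀ B]
  (φ : MvPolynomial (Fin r) R₀ →ₐ[R₀] B) (a : ℕ → Fin c → MvPolynomial (Fin r) R₀)

/-- The approximation properties of a formal complete intersection chart. -/
structure Approx : Prop where
  P1 : ∀ (n : ℕ) (b : B), ∃ (f : MvPolynomial (Fin r) R₀) (y : B), b = φ f + algebraMap R₀ B t₀ ^ n * y
  P2 : ∀ (n : ℕ) (f : MvPolynomial (Fin r) R₀) (y : B), φ f = algebraMap R₀ B t₀ ^ n * y →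
    ∃ (g : Fin c → MvPolynomial (Fin r) R₀) (h : MvPolynomial (Fin r) R₀),
      f = ∑ j, g j * a n j + C t₀ ^ n * h
  P3 : ∀ (n : ℕ) (j : Fin c), ∃ y : B, φ (a n j) = algebraMap R₀ B t₀ ^ n * y
  P4 : ∀ (n : ℕ) (j : Fin c), ∃ h : MvPolynomial (Fin r) R₀, a (n + 1) j - a n j = C t₀ ^ n * h

variable {t₀ φ a}

theorem jac_C_pow_mul (n : ℕ) (h : MvPolynomial (Fin r) R₀) :
    jac φ (C t₀ ^ n * h) = algebraMap R₀ B t₀ ^ n • jac φ h := by
  rw [jac_mul]
  have h1 : jac φ (C t₀ ^ n : MvPolynomial (Fin r) R₀) = 0 := by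
    funext i
    rw [jac, ← map_pow, pderiv_C, map_zero]
    rfl
  rw [h1, smul_zero, add_zero, map_pow]
  congr 2
  exact φ.commutes t₀

theorem pr_jac (f : MvPolynomial (Fin r) R₀) : pr φ (jac φ f) = D R₀ B (φ f) := by
  induction f using MvPolynomial.induction_on with
  | C s =>
    have h1 : jac φ (C s : MvPolynomial (Fin r) R₀) = 0 := by
      funext i
      rw [jac, pderiv_C, map_zero]
      rfl
    rw [h1, map_zero]
    have h2 : φ (C s) = algebraMap R₀ B s := φ.commutes s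
    rw [h2, Derivation.map_algebraMap]
  | add p q hp hq => rw [jac_add, map_add, hp, hq, map_add, map_add]
  | mul_X p i hp =>
    rw [jac_mul, map_add, map_smul, map_smul, hp, map_mul, Derivation.leibniz]
    congr 2
    have h1 : jac φ (X i : MvPolynomial (Fin r) R₀) = Pi.single i 1 := by
      funext j
      rw [jac, pderiv_X, Pi.single_apply, Pi.single_apply]
      split_ifs <;> simp_all
    rw [h1, pr, Fintype.linearCombination_apply_single, one_smul]

theorem exists_rows [IsPrecomplete (Ideal.span {algebraMap R₀ B t₀}) B] (H : Approx t₀ φ a) :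
    ∃ v : Fin c → Fin r → B, ∀ n j, ∃ z : Fin r → B,
      v j - jac φ (a n j) = algebraMap R₀ B t₀ ^ n • z := by
  have hp : IsPrecomplete (Ideal.span {algebraMap R₀ B t₀}) (Fin r → B) :=
    Groth.Agent.Ega1.LimitSystem.isPrecomplete_pi
  have h1 : ∀ j, ∃ L : Fin r → B, ∀ n, ∃ z, L - jac φ (a n j) = algebraMap R₀ B t₀ ^ n • z := by
    intro j
    refine exists_limit (algebraMap R₀ B t₀) (fun n => jac φ (a n j)) fun n => ?_
    obtain ⟨h, hh⟩ := H.P4 n j
    refine ⟨jac φ h, ?_⟩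
    rw [← jac_C_pow_mul, ← hh]
    have h2 : a (n + 1) j = (a (n + 1) j - a n j) + a n j := by ring
    rw [h2, jac_add, add_sub_cancel_right, ← h2]
  choose v hv using h1
  exact ⟨v, fun n j => hv j n⟩

/-- the Jacobian map in the limit -/
noncomputable def al (v : Fin c → Fin r → B) : (Fin c → B) →ₗ[B] (Fin r → B) :=
  Fintype.linearCombination B v

theorem al_apply (v : Fin c → Fin r → B) (x : Fin c → B) : al v x = ∑ j, x j • v j :=
  Fintype.linearCombination_apply _ _ _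

theorem exists_pr_add (H : Approx t₀ φ a) (n : ℕ) (ω : Ω[B⁄R₀]) :
    ∃ (u : Fin r → B) (ω' : Ω[B⁄R₀]), ω = pr φ u + algebraMap R₀ B t₀ ^ n • ω' := by
  have hω : ω ∈ Submodule.span B (Set.range (D R₀ B)) := by
    rw [span_range_derivation]; trivial
  induction hω using Submodule.span_induction with
  | mem ω hω =>
    obtain ⟨b, rfl⟩ := hω
    obtain ⟨f, y, rfl⟩ := H.P1 n b
    refine ⟨jac φ f, D R₀ B y, ?_⟩
    rw [pr_jac, map_add]
    congr 1
    rw [← map_pow, ← Algebra.smul_def, Derivation.map_smul, algebraMap_smul]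
  | zero => exact ⟨0, 0, by simp⟩
  | add ω₁ ω₂ _ _ h₁ h₂ =>
    obtain ⟨u₁, ω₁', rfl⟩ := h₁
    obtain ⟨u₂, ω₂', rfl⟩ := h₂
    refine ⟨u₁ + u₂, ω₁' + ω₂', ?_⟩
    rw [map_add, smul_add]
    abel
  | smul b ω _ h =>
    obtain ⟨u, ω', rfl⟩ := h
    refine ⟨b • u, b • ω', ?_⟩
    rw [map_smul, smul_add, smul_comm b]

theorem exists_of_pr (H : Approx t₀ φ a) {v : Fin c → Fin r → B}
    (hv : ∀ n j, ∃ z : Fin r → B, v j - jac φ (a n j) = algebraMap R₀ B t₀ ^ n • z)
    (n : ℕ) (u : Fin r → B) (ω : Ω[B⁄R₀]) (hu : pr φ u = algebraMap R₀ B t₀ ^ n • ω) :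
    ∃ (x : Fin c → B) (z : Fin r → B), u = al v x + algebraMap R₀ B t₀ ^ n • z := by
  set t := algebraMap R₀ B t₀ with ht
  let Bn := B ⧸ Ideal.span {t ^ n}
  let φn : MvPolynomial (Fin r) R₀ →ₐ[R₀] Bn := (Ideal.Quotient.mkₐ R₀ (Ideal.span {t ^ n})).comp φ
  have hmk : ∀ b : B, Ideal.Quotient.mk (Ideal.span {t ^ n}) b = 0 → ∃ y, b = t ^ n * y := by
    intro b hb
    rw [Ideal.Quotient.eq_zero_iff_mem, Ideal.mem_span_singleton'] at hb
    obtain ⟨y, rfl⟩ := hb
    exact ⟨y, mul_comm _ _⟩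
  have hφn : Function.Surjective φn := by
    intro b
    obtain ⟨b, rfl⟩ := Ideal.Quotient.mk_surjective b
    obtain ⟨f, y, rfl⟩ := H.P1 n b
    refine ⟨f, ?_⟩
    change Ideal.Quotient.mk _ (φ f) = Ideal.Quotient.mk _ (φ f + t ^ n * y)
    rw [map_add, map_mul, Ideal.Quotient.eq_zero_iff_mem.mpr (Ideal.mem_span_singleton_self (t ^ n)),
      zero_mul, add_zero]
  have h1 : KaehlerDifferential.map R₀ R₀ B Bn (pr φ u) =
      pr φn (fun i => Ideal.Quotient.mk (Ideal.span {t ^ n}) (u i)) := by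
    rw [pr, pr, Fintype.linearCombination_apply, Fintype.linearCombination_apply, map_sum]
    refine Finset.sum_congr rfl fun i _ => ?_
    rw [map_smul, map_D]
    exact (algebraMap_smul Bn (u i) _).symm
  have h2 : KaehlerDifferential.map R₀ R₀ B Bn (pr φ u) = 0 := by
    rw [hu, map_smul, ← algebraMap_smul Bn (t ^ n)]
    have : algebraMap B Bn (t ^ n) = 0 :=
      Ideal.Quotient.eq_zero_iff_mem.mpr (Ideal.mem_span_singleton_self (t ^ n))
    rw [this, zero_smul]
  rw [h1, pr_eq_zero_iff φn hφn] at h2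
  obtain ⟨f, hf, hfu⟩ := h2
  obtain ⟨y, hy⟩ := hmk _ hf
  obtain ⟨g, h, rfl⟩ := H.P2 n f y hy
  -- compare `jac` with `al`
  have h3 : ∀ i, ∃ w, u i - jac φ (∑ j, g j * a n j + C t₀ ^ n * h) i = t ^ n * w := by
    intro i
    apply hmk
    rw [map_sub, sub_eq_zero]
    exact (congrFun hfu i).symm
  choose w hw using h3
  choose z hz using hv n
  choose y' hy' using H.P3 n
  refine ⟨fun j => φ (g j), w - ∑ j, φ (g j) • z j + ∑ j, y' j • jac φ (g j) + jac φ h, ?_⟩
  have h4 : u = jac φ (∑ j, g j * a n j + C t₀ ^ n * h) + t ^ n • w := by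
    funext i
    rw [Pi.add_apply, Pi.smul_apply, smul_eq_mul, ← hw i]
    ring
  rw [h4, jac_add, jac_sum, jac_C_pow_mul, al_apply]
  have h5 : ∀ j, jac φ (g j * a n j) = φ (g j) • v j - t ^ n • (φ (g j) • z j) +
      t ^ n • (y' j • jac φ (g j)) := by
    intro j
    rw [jac_mul, hy', smul_comm (t ^ n) (φ (g j)), ← hz j, mul_smul]
    rw [smul_sub]
    congr 1
    abel
  simp_rw [h5]
  rw [Finset.sum_add_distrib, Finset.sum_sub_distrib, ← Finset.smul_sum, ← Finset.smul_sum,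
    smul_add, smul_add, smul_sub]
  abel

theorem pr_row (H : Approx t₀ φ a) {v : Fin c → Fin r → B}
    (hv : ∀ n j, ∃ z : Fin r → B, v j - jac φ (a n j) = algebraMap R₀ B t₀ ^ n • z)
    (n : ℕ) (x : Fin c → B) : ∃ ω : Ω[B⁄R₀], pr φ (al v x) = algebraMap R₀ B t₀ ^ n • ω := by
  choose z hz using hv n
  choose y hy using H.P3 n
  have h1 : ∀ j, pr φ (v j) = algebraMap R₀ B t₀ ^ n • (pr φ (z j) + D R₀ B (y j)) := by
    intro j
    have h2 : v j = (v j - jac φ (a n j)) + jac φ (a n j) := by abel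
    rw [h2, map_add, pr_jac, hz j, map_smul, hy j, smul_add]
    congr 1
    rw [← map_pow, ← Algebra.smul_def, Derivation.map_smul, algebraMap_smul]
  refine ⟨∑ j, x j • (pr φ (z j) + D R₀ B (y j)), ?_⟩
  rw [al_apply, map_sum, Finset.smul_sum]
  refine Finset.sum_congr rfl fun j _ => ?_
  rw [map_smul, h1, smul_comm]

/-- the projection to the completed differentials -/
noncomputable def prHat (φ : MvPolynomial (Fin r) R₀ →ₐ[R₀] B) (t : B) :
    (Fin r → B) →ₗ[B] AdicCompletion (Ideal.span {t}) (Ω[B⁄R₀]) :=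
  (AdicCompletion.of (Ideal.span {t}) (Ω[B⁄R₀])).comp (pr φ)

theorem of_eq_zero_iff (t : B) (ω : Ω[B⁄R₀]) :
    AdicCompletion.of (Ideal.span {t}) (Ω[B⁄R₀]) ω = 0 ↔ ∀ n : ℕ, ∃ ω', ω = t ^ n • ω' := by
  constructor
  · intro h n
    have h1 := congrArg (AdicCompletion.eval (Ideal.span {t}) (Ω[B⁄R₀]) n) h
    rw [AdicCompletion.eval_of, map_zero, Submodule.mkQ_apply, Submodule.Quotient.mk_eq_zero,
      mem_pow_smul_top] at h1
    exact h1
  · intro h
    apply AdicCompletion.ext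
    intro n
    rw [AdicCompletion.of_apply, AdicCompletion.val_zero_apply, Submodule.mkQ_apply,
      Submodule.Quotient.mk_eq_zero, mem_pow_smul_top]
    exact h n

theorem exact_prHat [IsNoetherianRing B] [IsAdicComplete (Ideal.span {algebraMap R₀ B t₀}) B]
    (H : Approx t₀ φ a) {v : Fin c → Fin r → B}
    (hv : ∀ n j, ∃ z : Fin r → B, v j - jac φ (a n j) = algebraMap R₀ B t₀ ^ n • z) :
    Function.Exact (al v) (prHat φ (algebraMap R₀ B t₀)) := by
  intro u
  rw [prHat, LinearMap.comp_apply, of_eq_zero_iff]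
  constructor
  · intro h
    have hH : IsHausdorff (Ideal.span {algebraMap R₀ B t₀}) ((Fin r → B) ⧸ LinearMap.range (al v)) :=
      IsHausdorff.of_le_jacobson _ _ (IsAdicComplete.le_jacobson_bot _)
    have h1 : (Submodule.Quotient.mk u : (Fin r → B) ⧸ LinearMap.range (al v)) = 0 := by
      refine eq_zero_of_forall (algebraMap R₀ B t₀) _ fun n => ?_
      obtain ⟨ω, hω⟩ := h n
      obtain ⟨x, z, hx⟩ := exists_of_pr H hv n u ω hω
      refine ⟨Submodule.Quotient.mk z, ?_⟩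
      rw [← Submodule.Quotient.mk_smul, Submodule.Quotient.eq, hx, add_sub_cancel_right]
      exact ⟨x, rfl⟩
    rw [Submodule.Quotient.mk_eq_zero] at h1
    exact h1
  · rintro ⟨x, rfl⟩ n
    exact pr_row H hv n x

theorem surjective_prHat [IsAdicComplete (Ideal.span {algebraMap R₀ B t₀}) B]
    (H : Approx t₀ φ a) : Function.Surjective (prHat φ (algebraMap R₀ B t₀)) := by
  have hp : IsPrecomplete (Ideal.span {algebraMap R₀ B t₀}) (Fin r → B) :=
    Groth.Agent.Ega1.LimitSystem.isPrecomplete_pi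
  refine surjective_of_mkQ_comp_surjective (I := Ideal.span {algebraMap R₀ B t₀}) ?_
  intro y
  obtain ⟨y, rfl⟩ := Submodule.mkQ_surjective _ y
  obtain ⟨ω, hω⟩ := Submodule.mkQ_surjective _
    (AdicCompletion.eval (Ideal.span {algebraMap R₀ B t₀}) (Ω[B⁄R₀]) 1 y)
  obtain ⟨u, ω', hu⟩ := exists_pr_add H 1 ω
  refine ⟨u, ?_⟩
  rw [LinearMap.comp_apply, Submodule.mkQ_apply, Submodule.mkQ_apply, Submodule.Quotient.eq]
  have h1 := AdicCompletion.pow_smul_top_eq_ker_eval (M := Ω[B⁄R₀])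
    (I := Ideal.span {algebraMap R₀ B t₀}) (n := 1) ⟨{algebraMap R₀ B t₀}, by simp⟩
  have h2 : prHat φ (algebraMap R₀ B t₀) u - y ∈
      (AdicCompletion.eval (Ideal.span {algebraMap R₀ B t₀}) (Ω[B⁄R₀]) 1).ker := by
    rw [LinearMap.mem_ker, map_sub, ← hω, prHat, LinearMap.comp_apply, AdicCompletion.eval_of,
      ← map_sub, Submodule.mkQ_apply, Submodule.Quotient.mk_eq_zero, mem_pow_smul_top]
    refine ⟨- ω', ?_⟩
    rw [hu, smul_neg]
    abel
  rw [← h1, pow_one] at h2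
  exact h2

end Setup

end K360.FormalCI
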