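import Groth.Agent.Fitt.K360.FormalCI
import Mathlib.RingTheory.PowerSeries.Basic

set_option autoImplicit false

/-!
# Formal complete intersections over `k[[t]]` with reduced closed fibre: injectivity of the Jacobian
-/

namespace K360.FormalCI2

open KaehlerDifferential Algebra MvPolynomial TensorProduct K360.JacPres K360.JacInj K360.ExtTwoTerm
  K360.FormalCI
open CategoryTheory

universe u

section Levels

variable {R₀ : Type u} [CommRing R₀] {r c : ℕ} {B : Type u} [CommRing B] [Algebra R₀ B]

theorem al_smul (v : Fin c → Fin r → B) (b : B) (x : Fin c → B) : al v (b • x) = b • al v x :=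
  map_smul _ _ _

/-- Injectivity modulo `t` implies injectivity modulo `t ^ m`. -/
theorem level_injective (t : B) (ht : ∀ b : B, t * b = 0 → b = 0) (v : Fin c → Fin r → B)
    (h0 : ∀ (x : Fin c → B) (z : Fin r → B), al v x = t • z → ∃ x', x = t • x') (m : ℕ) :
    ∀ (x : Fin c → B) (z : Fin r → B), al v x = t ^ m • z → ∃ x', x = t ^ m • x' := by
  induction m with
  | zero => exact fun x z _ => ⟨x, by simp⟩
  | succ m ih =>
    intro x z hx
    obtain ⟨x', rfl⟩ := h0 x (t ^ m • z) (by rw [hx, smul_smul, pow_succ'])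
    rw [map_smul, pow_succ', mul_smul] at hx
    have h1 : al v x' = t ^ m • z := by
      funext i
      have h2 := congrFun hx i
      simp only [Pi.smul_apply, smul_eq_mul] at h2 ⊢
      have h3 : t * (al v x' i - t ^ m * z i) = 0 := by rw [mul_sub, h2, sub_self]
      exact sub_eq_zero.mp (ht _ h3)
    obtain ⟨x'', rfl⟩ := ih x' z h1
    exact ⟨x'', by rw [smul_smul, pow_succ']⟩

theorem al_injective (t : B) [IsHausdorff (Ideal.span {t}) B] (ht : ∀ b : B, t * b = 0 → b = 0)
    (v : Fin c → Fin r → B)
    (h0 : ∀ (x : Fin c → B) (z : Fin r → B), al v x = t • z → ∃ x', x = t • x') :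
    Function.Injective (al v) := by
  rw [injective_iff_map_eq_zero]
  intro x hx
  funext j
  refine eq_zero_of_forall t _ fun n => ?_
  obtain ⟨x', rfl⟩ := level_injective t ht v h0 n x 0 (by rw [hx, smul_zero])
  exact ⟨x' j, rfl⟩

end Levels

section ClosedFibre

variable {k : Type u} [Field k] [PerfectField k] {r c : ℕ} {B : Type u} [CommRing B]
  [Algebra (PowerSeries k) B]
  {φ : MvPolynomial (Fin r) (PowerSeries k) →ₐ[PowerSeries k] B}
  {a : ℕ → Fin c → MvPolynomial (Fin r) (PowerSeries k)}

/-- reduction of coefficients modulo `t` -/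
noncomputable abbrev red (k : Type u) [Field k] (r : ℕ) :
    MvPolynomial (Fin r) (PowerSeries k) →+* MvPolynomial (Fin r) k :=
  MvPolynomial.map PowerSeries.constantCoeff

noncomputable abbrev lft (k : Type u) [Field k] (r : ℕ) :
    MvPolynomial (Fin r) k →+* MvPolynomial (Fin r) (PowerSeries k) :=
  MvPolynomial.map PowerSeries.C

omit [PerfectField k] in
theorem red_lft (f : MvPolynomial (Fin r) k) : red k r (lft k r f) = f := by
  rw [MvPolynomial.map_map]
  have : (PowerSeries.constantCoeff (R := k)).comp PowerSeries.C = RingHom.id k := by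
    ext x; simp
  rw [this, MvPolynomial.map_id]

omit [PerfectField k] in
/-- Two ring maps out of `k[[t]][T]` killing `t` which agree on constants and variables. -/
theorem hom_red {S : Type*} [CommRing S] (θ : MvPolynomial (Fin r) (PowerSeries k) →+* S)
    (hθ : θ (C PowerSeries.X) = 0) (f : MvPolynomial (Fin r) (PowerSeries k)) :
    θ (lft k r (red k r f)) = θ f := by
  have h : (θ.comp (lft k r)).comp (red k r) = θ := by
    refine MvPolynomial.ringHom_ext (fun s => ?_) (fun i => ?_)
    · simp only [RingHom.comp_apply, map_C]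
      have h1 : s = PowerSeries.C (PowerSeries.constantCoeff s) + PowerSeries.X *
          (PowerSeries.mk fun p => PowerSeries.coeff (p + 1) s) := by
        conv_lhs => rw [PowerSeries.eq_X_mul_shift_add_const s]
        rw [add_comm]
      conv_rhs => rw [h1]
      rw [map_add, map_mul, map_add, map_mul, hθ, zero_mul, add_zero]
    · simp
  exact congrArg (fun g => g f) h

theorem inj0 [IsReduced (B ⧸ Ideal.span {algebraMap (PowerSeries k) B PowerSeries.X})]
    (H : Approx PowerSeries.X φ a) {v : Fin c → Fin r → B}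
    (hv : ∀ n j, ∃ z : Fin r → B,
      v j - jac φ (a n j) = algebraMap (PowerSeries k) B PowerSeries.X ^ n • z)
    (hqr : ∀ g : Fin c → MvPolynomial (Fin r) k,
      ∑ j, g j * red k r (a 1 j) ∈ Ideal.span (Set.range fun j => red k r (a 1 j)) ^ 2 →
      ∀ j, g j ∈ Ideal.span (Set.range fun j => red k r (a 1 j)))
    (x : Fin c → B) (z : Fin r → B)
    (hx : al v x = algebraMap (PowerSeries k) B PowerSeries.X • z) :
    ∃ x', x = algebraMap (PowerSeries k) B PowerSeries.X • x' := by
  set t := algebraMap (PowerSeries k) B PowerSeries.X with ht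
  let _ : Algebra k B := ((algebraMap (PowerSeries k) B).comp PowerSeries.C).toAlgebra
  let B₀ := B ⧸ Ideal.span {t}
  let mk : B →+* B₀ := Ideal.Quotient.mk (Ideal.span {t})
  have hmk : ∀ b : B, mk b = 0 → ∃ y, b = t * y := by
    intro b hb
    rw [Ideal.Quotient.eq_zero_iff_mem, Ideal.mem_span_singleton'] at hb
    obtain ⟨y, rfl⟩ := hb
    exact ⟨y, mul_comm _ _⟩
  have hmkt : mk t = 0 := Ideal.Quotient.eq_zero_iff_mem.mpr (Ideal.mem_span_singleton_self t)
  let φ₀ : MvPolynomial (Fin r) k →ₐ[k] B₀ := aeval fun i => mk (φ (X i))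
  have hφ₀ : ∀ f : MvPolynomial (Fin r) (PowerSeries k), φ₀ (red k r f) = mk (φ f) := by
    intro f
    have h1 := hom_red (mk.comp φ.toRingHom) (by
      change mk (φ (C PowerSeries.X)) = 0
      have : φ (C PowerSeries.X) = t := φ.commutes _
      rw [this, hmkt]) f
    rw [← show mk (φ (lft k r (red k r f))) = mk (φ f) from h1]
    generalize red k r f = f₀
    have h2 : φ₀.toRingHom = (mk.comp φ.toRingHom).comp (lft k r) := by
      refine MvPolynomial.ringHom_ext (fun s => ?_) (fun i => ?_)
      · change φ₀ (C s) = mk (φ (lft k r (C s)))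
        rw [lft, map_C]
        have h3 : φ (C (PowerSeries.C s)) = algebraMap (PowerSeries k) B (PowerSeries.C s) :=
          φ.commutes _
        rw [h3]
        exact φ₀.commutes s
      · change φ₀ (X i) = mk (φ (lft k r (X i)))
        rw [lft, map_X]
        exact aeval_X _ _
    exact congrArg (fun g => g f₀) h2
  have hjac : ∀ f : MvPolynomial (Fin r) (PowerSeries k), jac φ₀ (red k r f) = fun i => mk (jac φ f i) := by
    intro f
    funext i
    rw [jac, jac, pderiv_map, hφ₀]
  have hsurj : Function.Surjective φ₀ := by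
    intro b
    obtain ⟨b, rfl⟩ := Ideal.Quotient.mk_surjective b
    obtain ⟨f, y, rfl⟩ := H.P1 1 b
    refine ⟨red k r f, ?_⟩
    rw [hφ₀]
    change mk _ = mk (φ f + t ^ 1 * y)
    rw [map_add, map_mul, pow_one, hmkt, zero_mul, add_zero]
  have hker : RingHom.ker φ₀.toRingHom = Ideal.span (Set.range fun j => red k r (a 1 j)) := by
    apply le_antisymm
    · intro f₀ hf₀
      have h1 : mk (φ (lft k r f₀)) = 0 := by
        rw [← hφ₀, red_lft]
        exact hf₀
      obtain ⟨y, hy⟩ := hmk _ h1
      obtain ⟨g, h, hgh⟩ := H.P2 1 (lft k r f₀) y (by rw [pow_one]; exact hy)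
      have h2 : f₀ = ∑ j, red k r (g j) * red k r (a 1 j) := by
        rw [← red_lft f₀, hgh, map_add, map_mul, map_sum, map_pow, map_C]
        simp
      rw [h2]
      exact Ideal.sum_mem _ fun j _ => Ideal.mul_mem_left _ _ (Ideal.subset_span ⟨j, rfl⟩)
    · rw [Ideal.span_le]
      rintro _ ⟨j, rfl⟩
      rw [SetLike.mem_coe, RingHom.mem_ker]
      change φ₀ (red k r (a 1 j)) = 0
      obtain ⟨y, hy⟩ := H.P3 1 j
      rw [hφ₀, hy, map_mul, pow_one]
      change mk t * mk y = 0
      rw [hmkt, zero_mul]
  have h1 := jac_injective φ₀ hsurj (fun j => red k r (a 1 j)) hker hqr (fun j => mk (x j)) (by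
    funext i
    have h2 := congrArg mk (congrFun hx i)
    rw [al_apply, Finset.sum_apply, map_sum, Pi.smul_apply, smul_eq_mul, map_mul, hmkt,
      zero_mul] at h2
    rw [Finset.sum_apply, Pi.zero_apply, ← h2]
    refine Finset.sum_congr rfl fun j _ => ?_
    rw [Pi.smul_apply, Pi.smul_apply, hjac, smul_eq_mul, smul_eq_mul, map_mul]
    congr 1
    obtain ⟨z', hz'⟩ := hv 1 j
    have h3 := congrArg mk (congrFun hz' i)
    rw [Pi.sub_apply, map_sub, Pi.smul_apply, smul_eq_mul, map_mul, pow_one, hmkt, zero_mul,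
      sub_eq_zero] at h3
    exact h3.symm)
  have h2 : ∀ j, ∃ y, x j = t * y := fun j => hmk _ (congrFun h1 j)
  choose x' hx' using h2
  exact ⟨x', funext hx'⟩

end ClosedFibre

end K360.FormalCI2
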