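import Groth.Agent.Fitt.K360.FormalCI2
import Mathlib.RingTheory.Flat.TorsionFree
import Mathlib.RingTheory.PowerSeries.NoZeroDivisors

set_option autoImplicit false

/-!
# Formal complete intersections: from the completed polynomial ring to approximations
-/

namespace K360.FormalCI3

open KaehlerDifferential Algebra MvPolynomial TensorProduct K360.JacPres K360.JacInj K360.ExtTwoTerm
  K360.FormalCI K360.FormalCI2
open CategoryTheory

universe u

section General

variable (R₀ : Type u) [CommRing R₀] (t₀ : R₀) (r : ℕ)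

/-- the `t₀`-adic completion of the polynomial ring -/
abbrev At : Type u :=
  AdicCompletion (Ideal.span {MvPolynomial.C (σ := Fin r) t₀}) (MvPolynomial (Fin r) R₀)

/-- the canonical map to the completion -/
noncomputable def inc : MvPolynomial (Fin r) R₀ →ₐ[R₀] At R₀ t₀ r :=
  { algebraMap (MvPolynomial (Fin r) R₀) (At R₀ t₀ r) with commutes' := fun _ => rfl }

variable {R₀ t₀ r}

theorem inc_apply (f : MvPolynomial (Fin r) R₀) :
    inc R₀ t₀ r f = AdicCompletion.of (Ideal.span {MvPolynomial.C (σ := Fin r) t₀}) _ f := rfl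

theorem C_pow_smul (n : ℕ) (y : At R₀ t₀ r) :
    (C t₀ : MvPolynomial (Fin r) R₀) ^ n • y = algebraMap R₀ (At R₀ t₀ r) t₀ ^ n * y := by
  rw [Algebra.smul_def, map_pow]
  rfl

theorem eval_eq_zero_iff (n : ℕ) (x : At R₀ t₀ r) :
    AdicCompletion.eval (Ideal.span {MvPolynomial.C (σ := Fin r) t₀}) _ n x = 0 ↔
      ∃ y, x = algebraMap R₀ (At R₀ t₀ r) t₀ ^ n * y := by
  have h1 := AdicCompletion.pow_smul_top_eq_ker_eval (M := MvPolynomial (Fin r) R₀)
    (I := Ideal.span {MvPolynomial.C (σ := Fin r) t₀}) (n := n) ⟨{MvPolynomial.C t₀}, by simp⟩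
  rw [← LinearMap.mem_ker, ← h1, mem_pow_smul_top]
  simp_rw [C_pow_smul]

theorem exists_inc_add (n : ℕ) (x : At R₀ t₀ r) :
    ∃ (f : MvPolynomial (Fin r) R₀) (y : At R₀ t₀ r),
      x = inc R₀ t₀ r f + algebraMap R₀ (At R₀ t₀ r) t₀ ^ n * y := by
  obtain ⟨f, hf⟩ := Submodule.mkQ_surjective _
    (AdicCompletion.eval (Ideal.span {MvPolynomial.C (σ := Fin r) t₀}) _ n x)
  have h1 : AdicCompletion.eval (Ideal.span {MvPolynomial.C (σ := Fin r) t₀}) _ n
      (x - inc R₀ t₀ r f) = 0 := by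
    rw [map_sub, inc_apply, AdicCompletion.eval_of, hf, sub_self]
  obtain ⟨y, hy⟩ := (eval_eq_zero_iff n _).mp h1
  exact ⟨f, y, by rw [← hy]; ring⟩

theorem exists_of_inc (n : ℕ) (f : MvPolynomial (Fin r) R₀) (y : At R₀ t₀ r)
    (h : inc R₀ t₀ r f = algebraMap R₀ (At R₀ t₀ r) t₀ ^ n * y) :
    ∃ g, f = C t₀ ^ n * g := by
  have h1 := (eval_eq_zero_iff n _).mpr ⟨y, h⟩
  rw [inc_apply, AdicCompletion.eval_of, Submodule.mkQ_apply, Submodule.Quotient.mk_eq_zero,
    mem_pow_smul_top] at h1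
  exact h1

theorem exists_approx {c : ℕ} {B : Type u} [CommRing B] [Algebra R₀ B] (a : Fin c → At R₀ t₀ r)
    (ψ : At R₀ t₀ r →ₐ[R₀] B) (hψ : Function.Surjective ψ)
    (hker : RingHom.ker ψ.toRingHom = Ideal.span (Set.range a)) :
    ∃ a' : ℕ → Fin c → MvPolynomial (Fin r) R₀,
      (∀ n j, ∃ y, a j = inc R₀ t₀ r (a' n j) + algebraMap R₀ (At R₀ t₀ r) t₀ ^ n * y) ∧
      Approx t₀ (ψ.comp (inc R₀ t₀ r)) a' := by
  choose a' y hy using fun n j => exists_inc_add (R₀ := R₀) (t₀ := t₀) (r := r) n (a j)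
  have hψt : ψ (algebraMap R₀ (At R₀ t₀ r) t₀) = algebraMap R₀ B t₀ := ψ.commutes _
  refine ⟨a', fun n j => ⟨y n j, hy n j⟩, ?_, ?_, ?_, ?_⟩
  · intro n b
    obtain ⟨x, rfl⟩ := hψ b
    obtain ⟨f, y, rfl⟩ := exists_inc_add n x
    refine ⟨f, ψ y, ?_⟩
    rw [map_add, map_mul, map_pow, hψt]
    rfl
  · intro n f b hb
    obtain ⟨y', rfl⟩ := hψ b
    have h1 : inc R₀ t₀ r f - algebraMap R₀ (At R₀ t₀ r) t₀ ^ n * y' ∈ RingHom.ker ψ.toRingHom := by
      rw [RingHom.mem_ker]
      change ψ _ = 0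
      rw [map_sub, map_mul, map_pow, hψt, ← hb]
      exact sub_self _
    rw [hker, Ideal.mem_span_range_iff_exists_fun] at h1
    obtain ⟨g', hg'⟩ := h1
    choose g w hw using fun j => exists_inc_add (R₀ := R₀) (t₀ := t₀) (r := r) n (g' j)
    have h2 : inc R₀ t₀ r (f - ∑ j, g j * a' n j) = algebraMap R₀ (At R₀ t₀ r) t₀ ^ n *
        (y' + ∑ j, (w j * a j + inc R₀ t₀ r (g j) * y n j)) := by
      have h3 : ∀ j, g' j * a j = inc R₀ t₀ r (g j * a' n j) +
          algebraMap R₀ (At R₀ t₀ r) t₀ ^ n * (w j * a j + inc R₀ t₀ r (g j) * y n j) := by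
        intro j
        rw [hw j, map_mul]
        conv_lhs => rw [add_mul]
        conv_lhs => enter [1]; rw [hy n j]
        ring
      have h4 : inc R₀ t₀ r f = algebraMap R₀ (At R₀ t₀ r) t₀ ^ n * y' + ∑ j, g' j * a j := by
        rw [hg']; ring
      rw [map_sub, h4, map_sum]
      simp_rw [h3]
      rw [Finset.sum_add_distrib, ← Finset.mul_sum]
      ring
    obtain ⟨h, hh⟩ := exists_of_inc n _ _ h2
    exact ⟨g, h, by rw [← hh]; ring⟩
  · intro n j
    refine ⟨- ψ (y n j), ?_⟩
    have h1 : ψ (a j) = 0 := by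
      have : a j ∈ RingHom.ker ψ.toRingHom := by
        rw [hker]; exact Ideal.subset_span ⟨j, rfl⟩
      exact this
    have h2 := congrArg ψ (hy n j)
    rw [h1, map_add, map_mul, map_pow, hψt] at h2
    change ψ (inc R₀ t₀ r (a' n j)) = _
    linear_combination -h2
  · intro n j
    refine exists_of_inc n _ (y n j - algebraMap R₀ (At R₀ t₀ r) t₀ * y (n + 1) j) ?_
    rw [map_sub]
    have h1 := hy n j
    have h2 := hy (n + 1) j
    rw [pow_succ] at h2
    linear_combination h1 - h2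

end General

section Field

variable {k : Type u} [Field k] {r c : ℕ}

/-- quasi-regularity of the reductions -/
theorem quasi (a : Fin c → At (PowerSeries k) PowerSeries.X r)
    (a₁ : Fin c → MvPolynomial (Fin r) (PowerSeries k))
    (ha₁ : ∀ j, ∃ y, a j = inc (PowerSeries k) PowerSeries.X r (a₁ j) +
      algebraMap (PowerSeries k) (At (PowerSeries k) PowerSeries.X r) PowerSeries.X ^ 1 * y)
    (Q : Type u) [CommRing Q] (mk : At (PowerSeries k) PowerSeries.X r →+* Q)
    (hmks : Function.Surjective mk)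
    (hmkt : mk (algebraMap (PowerSeries k) (At (PowerSeries k) PowerSeries.X r) PowerSeries.X) = 0)
    (hmk0 : ∀ x, mk x = 0 →
      ∃ y, x = algebraMap (PowerSeries k) (At (PowerSeries k) PowerSeries.X r) PowerSeries.X ^ 1 * y)
    (hreg : RingTheory.Sequence.IsWeaklyRegular Q (List.ofFn fun j => mk (a j)))
    (g : Fin c → MvPolynomial (Fin r) k)
    (hg : ∑ j, g j * red k r (a₁ j) ∈ Ideal.span (Set.range fun j => red k r (a₁ j)) ^ 2) (j : Fin c) :
    g j ∈ Ideal.span (Set.range fun j => red k r (a₁ j)) := by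
  let θ : MvPolynomial (Fin r) (PowerSeries k) →+* Q :=
    mk.comp (inc (PowerSeries k) PowerSeries.X r).toRingHom
  have hθ : θ (C PowerSeries.X) = 0 := hmkt
  let σ : MvPolynomial (Fin r) k →+* Q := θ.comp (lft k r)
  have hσ : ∀ f, σ (red k r f) = θ f := fun f => hom_red θ hθ f
  have hinj : Function.Injective σ := by
    rw [injective_iff_map_eq_zero]
    intro f₀ hf₀
    obtain ⟨y, hy⟩ := hmk0 _ hf₀
    obtain ⟨g, hg⟩ := exists_of_inc 1 (lft k r f₀) y hy
    rw [← red_lft f₀, hg, map_mul, map_pow, map_C]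
    simp
  have hsurj : Function.Surjective σ := by
    intro x
    obtain ⟨x, rfl⟩ := hmks x
    obtain ⟨f, y, rfl⟩ := exists_inc_add 1 x
    refine ⟨red k r f, ?_⟩
    rw [hσ, map_add, map_mul, pow_one, hmkt, zero_mul, add_zero]
    rfl
  have hσa : ∀ j, σ (red k r (a₁ j)) = mk (a j) := by
    intro j
    obtain ⟨y, hy⟩ := ha₁ j
    rw [hσ, hy, map_add, map_mul, pow_one, hmkt, zero_mul, add_zero]
    rfl
  have he : (Ideal.span (Set.range fun j => red k r (a₁ j))).map σ =
      Ideal.span (Set.range fun j => mk (a j)) := by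
    rw [Ideal.map_span, ← Set.range_comp]
    congr 1
    ext x
    simp only [Set.mem_range, Function.comp_apply, hσa]
  have h1 := mem_of_sum_mem_sq (fun j => mk (a j)) hreg (fun j => σ (g j)) (by
    have h2 := Ideal.mem_map_of_mem σ hg
    rw [Ideal.map_pow, he, map_sum] at h2
    convert h2 using 2
    rw [map_mul, hσa]) j
  rw [← he] at h1
  have h2 : ((Ideal.span (Set.range fun j => red k r (a₁ j))).map σ).comap σ =
      Ideal.span (Set.range fun j => red k r (a₁ j)) :=
    Ideal.comap_map_of_bijective σ ⟨hinj, hsurj⟩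
  rw [← h2]
  exact h1

variable [PerfectField k]

theorem setup
    (a : Fin c → At (PowerSeries k) PowerSeries.X r)
    (B : Type u) [CommRing B] [Algebra (PowerSeries k) B] [IsNoetherianRing B]
    [IsAdicComplete (Ideal.span {algebraMap (PowerSeries k) B PowerSeries.X}) B]
    [Module.Flat (PowerSeries k) B]
    (ψ : At (PowerSeries k) PowerSeries.X r →ₐ[PowerSeries k] B)
    (hψ : Function.Surjective ψ) (hker : RingHom.ker ψ.toRingHom = Ideal.span (Set.range a))
    (hreg : ∀ n : ℕ, RingTheory.Sequence.IsRegular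
      (At (PowerSeries k) PowerSeries.X r ⧸
        Ideal.span {algebraMap (PowerSeries k) (At (PowerSeries k) PowerSeries.X r) PowerSeries.X ^ (n + 1)})
      ((List.ofFn a).map (Ideal.Quotient.mk (Ideal.span {algebraMap (PowerSeries k)
        (At (PowerSeries k) PowerSeries.X r) PowerSeries.X ^ (n + 1)}))))
    [IsReduced (B ⧸ Ideal.span {algebraMap (PowerSeries k) B PowerSeries.X})] :
    ∃ (φ : MvPolynomial (Fin r) (PowerSeries k) →ₐ[PowerSeries k] B)
      (a' : ℕ → Fin c → MvPolynomial (Fin r) (PowerSeries k)) (v : Fin c → Fin r → B),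
      Approx PowerSeries.X φ a' ∧
      (∀ n j, ∃ z : Fin r → B,
        v j - jac φ (a' n j) = algebraMap (PowerSeries k) B PowerSeries.X ^ n • z) ∧
      (∀ b : B, algebraMap (PowerSeries k) B PowerSeries.X * b = 0 → b = 0) ∧
      (∀ (x : Fin c → B) (z : Fin r → B), al v x = algebraMap (PowerSeries k) B PowerSeries.X • z →
        ∃ x', x = algebraMap (PowerSeries k) B PowerSeries.X • x') := by
  obtain ⟨a', ha', H⟩ := exists_approx a ψ hψ hker
  obtain ⟨v, hv⟩ := exists_rows H
  refine ⟨ψ.comp (inc (PowerSeries k) PowerSeries.X r), a', v, H, hv, ?_, ?_⟩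
  · intro b hb
    have h1 : IsSMulRegular B (PowerSeries.X : PowerSeries k) :=
      Module.Flat.isSMulRegular_of_nonZeroDivisors
        (mem_nonZeroDivisors_of_ne_zero PowerSeries.X_ne_zero)
    refine h1 ?_
    simp only [smul_zero]
    rw [Algebra.smul_def, hb]
  · refine inj0 H hv (quasi a (a' 1) (ha' 1) _ (Ideal.Quotient.mk (Ideal.span {algebraMap (PowerSeries k)
        (At (PowerSeries k) PowerSeries.X r) PowerSeries.X ^ (0 + 1)})) Ideal.Quotient.mk_surjective
        ?_ ?_ ?_)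
    · rw [Ideal.Quotient.eq_zero_iff_mem, zero_add, pow_one]
      exact Ideal.mem_span_singleton_self _
    · intro x hx
      rw [Ideal.Quotient.eq_zero_iff_mem, Ideal.mem_span_singleton'] at hx
      obtain ⟨y, rfl⟩ := hx
      exact ⟨y, mul_comm _ _⟩
    · have h := (hreg 0).toIsWeaklyRegular
      rw [List.map_ofFn] at h
      exact h

end Field

end K360.FormalCI3
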