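import Groth.Agent.Fitt.K360.FormalCI3
import Groth.Agent.Fitt.K360.Fiber

set_option autoImplicit false

/-!
# Formal complete intersections: levels, base change of `T¹`
-/

namespace K360.FormalCI4

open KaehlerDifferential Algebra MvPolynomial TensorProduct K360.JacPres K360.JacInj K360.ExtTwoTerm
  K360.FormalCI K360.FormalCI2 K360.FittBasic K360.FittMinors
open CategoryTheory
open Groth.Agent.Flat2C.FittingZero (rel mem_rel)

universe u

section Rel

/-- Two modules with generating families having the same relations are isomorphic. -/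
theorem nonempty_equiv_of_rel_eq {R M N : Type*} [CommRing R] [AddCommGroup M] [Module R M]
    [AddCommGroup N] [Module R N] {ι : Type*} [Fintype ι] [DecidableEq ι] (x : ι → M) (y : ι → N)
    (hx : Submodule.span R (Set.range x) = ⊤) (hy : Submodule.span R (Set.range y) = ⊤)
    (h : rel (R := R) x = rel (R := R) y) : Nonempty (M ≃ₗ[R] N) := by
  have key : ∀ {P : Type _} [AddCommGroup P] [Module R P] (z : ι → P),
      LinearMap.ker (Fintype.linearCombination R z) = rel (R := R) z := by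
    intro P _ _ z
    ext c
    rw [LinearMap.mem_ker, mem_rel, Fintype.linearCombination_apply]
  have key2 : ∀ {P : Type _} [AddCommGroup P] [Module R P] (z : ι → P),
      LinearMap.ker (Fintype.linearCombination R z) = rel (R := R) z := by
    intro P _ _ z
    ext c
    rw [LinearMap.mem_ker, mem_rel, Fintype.linearCombination_apply]
  have h1 : Function.Surjective (Fintype.linearCombination R x) := by
    rw [← LinearMap.range_eq_top, Fintype.range_linearCombination, hx]
  have h2 : Function.Surjective (Fintype.linearCombination R y) := by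
    rw [← LinearMap.range_eq_top, Fintype.range_linearCombination, hy]
  exact ⟨((LinearMap.quotKerEquivOfSurjective _ h1).symm.trans
    (Submodule.quotEquivOfEq _ _ ((key x).trans (h.trans (key2 y).symm)))).trans
    (LinearMap.quotKerEquivOfSurjective _ h2)⟩

variable {B : Type u} [CommRing B] {c r : ℕ}

/-- generators and relations of the cokernel of the transpose of `α` -/
theorem exists_generators {T : Type*} [AddCommGroup T] [Module B T]
    (α : (Fin c → B) →ₗ[B] (Fin r → B)) (δ : ((Fin c → B) →ₗ[B] B) →ₗ[B] T)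
    (hδ : Function.Surjective δ) (hker : ∀ φ, δ φ = 0 ↔ ∃ ψ : (Fin r → B) →ₗ[B] B, ψ ∘ₗ α = φ) :
    ∃ x : Fin c → T, Submodule.span B (Set.range x) = ⊤ ∧
      Submodule.span B (Set.range fun (i : Fin r) (j : Fin c) => α (Pi.single j 1) i) =
        rel (R := B) x := by
  classical
  let x : Fin c → T := fun j => δ (LinearMap.proj j)
  have hsum : ∀ v : Fin c → B, ∑ j, v j • x j = δ (∑ j, v j • LinearMap.proj j) := by
    intro v
    rw [map_sum]
    exact Finset.sum_congr rfl fun i _ => (map_smul _ _ _).symm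
  have hrep : ∀ {n : ℕ} (φ : (Fin n → B) →ₗ[B] B), φ = ∑ j, φ (Pi.single j 1) • LinearMap.proj j := by
    intro n φ
    refine LinearMap.pi_ext' fun j => LinearMap.ext_ring ?_
    simp [Pi.single_apply]
  refine ⟨x, ?_, ?_⟩
  · rw [_root_.eq_top_iff]
    rintro y -
    obtain ⟨φ, rfl⟩ := hδ y
    rw [hrep φ, ← hsum]
    exact Submodule.sum_mem _ fun i _ => Submodule.smul_mem _ _ (Submodule.subset_span ⟨i, rfl⟩)
  apply le_antisymm
  · rw [Submodule.span_le]
    rintro _ ⟨i, rfl⟩
    rw [SetLike.mem_coe, mem_rel, hsum, hker]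
    refine ⟨LinearMap.proj i, ?_⟩
    rw [hrep (LinearMap.proj i ∘ₗ α)]
    rfl
  · intro v hv
    rw [mem_rel, hsum, hker] at hv
    obtain ⟨ψ, hψ⟩ := hv
    have h1 : v = ∑ i, ψ (Pi.single i 1) • (fun (j : Fin c) => α (Pi.single j 1) i) := by
      funext j
      have h2 := LinearMap.congr_fun hψ (Pi.single j 1)
      rw [LinearMap.comp_apply, hrep ψ] at h2
      simp only [LinearMap.sum_apply, LinearMap.smul_apply, LinearMap.proj_apply,
        smul_eq_mul] at h2
      rw [Finset.sum_apply]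
      simp only [Pi.smul_apply, smul_eq_mul]
      rw [h2]
      simp [Pi.single_apply]
    rw [h1]
    exact Submodule.sum_mem _ fun i _ => Submodule.smul_mem _ _ (Submodule.subset_span ⟨i, rfl⟩)

/-- `Ext^1` of a module with a two-term free resolution by generators and relations. -/
theorem exists_generators_ext {Ω : Type u} [AddCommGroup Ω] [Module B Ω]
    (α : (Fin c → B) →ₗ[B] (Fin r → B))
    (π : (Fin r → B) →ₗ[B] Ω) (hα : Function.Injective α) (hπ : Function.Surjective π)
    (hex : Function.Exact α π) :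
    ∃ x : Fin c → Abelian.Ext.{u} (ModuleCat.of B Ω) (ModuleCat.of B B) 1,
      Submodule.span B (Set.range x) = ⊤ ∧
      Submodule.span B (Set.range fun (i : Fin r) (j : Fin c) => α (Pi.single j 1) i) =
        rel (R := B) x := by
  obtain ⟨δ, hδ, hker⟩ := exists_delta (Y := B) α π hα hπ hex
  exact exists_generators α δ hδ hker

/-- Some power of `t` lies in the zeroth Fitting ideal iff some power of `t` kills the module. -/
theorem exists_pow_mem_iff {T : Type u} [AddCommGroup T] [Module B T] (x : Fin c → T)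
    (hx : Submodule.span B (Set.range x) = ⊤) (t : B) :
    (∃ κ : ℕ, t ^ κ ∈ Fitt.ideal B T 0) ↔ ∃ m : ℕ, ∀ y : T, t ^ m • y = 0 := by
  constructor
  · rintro ⟨κ, hκ⟩
    have : Module.Finite B T := ⟨⟨(Set.finite_range x).toFinset, by simpa using hx⟩⟩
    refine ⟨κ, fun y => ?_⟩
    exact Module.mem_annihilator.mp (K360.FittFiber.ideal_zero_le_annihilator hκ) y
  · rintro ⟨m, hm⟩
    refine ⟨m * c, ?_⟩
    rw [ideal_eq_fit x hx, fit]
    refine Ideal.subset_span ⟨(t ^ m) • (1 : Matrix (Fin c) (Fin c) B), ∅, le_rfl, fun i _ => ?_, ?_⟩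
    · rw [Finset.sum_eq_single i]
      · rw [Matrix.smul_apply, Matrix.one_apply_eq, smul_eq_mul, mul_one, hm]
      · intro j _ hj
        rw [Matrix.smul_apply, Matrix.one_apply_ne hj.symm, smul_zero, zero_smul]
      · intro hi; exact absurd (Finset.mem_univ i) hi
    · rw [Matrix.det_smul, Matrix.det_one, mul_one, Fintype.card_fin, ← pow_mul]

end Rel

section Level

variable {R₀ : Type u} [CommRing R₀] {t₀ : R₀} {r c : ℕ} {B : Type u} [CommRing B] [Algebra R₀ B]
  {φ : MvPolynomial (Fin r) R₀ →ₐ[R₀] B} {a : ℕ → Fin c → MvPolynomial (Fin r) R₀}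

/-- the reduction of the presentation to the level `n` -/
noncomputable def lev (φ : MvPolynomial (Fin r) R₀ →ₐ[R₀] B) (t : B) (n : ℕ) :
    MvPolynomial (Fin r) R₀ →ₐ[R₀] B ⧸ Ideal.span {t ^ n} :=
  (Ideal.Quotient.mkₐ R₀ (Ideal.span {t ^ n})).comp φ

theorem lev_apply (t : B) (n : ℕ) (f : MvPolynomial (Fin r) R₀) :
    lev φ t n f = Ideal.Quotient.mk (Ideal.span {t ^ n}) (φ f) := rfl

theorem mk_eq_zero_iff (t : B) (n : ℕ) (b : B) :
    Ideal.Quotient.mk (Ideal.span {t ^ n}) b = 0 ↔ ∃ y, b = t ^ n * y := by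
  rw [Ideal.Quotient.eq_zero_iff_mem, Ideal.mem_span_singleton']
  constructor
  · rintro ⟨y, rfl⟩; exact ⟨y, mul_comm _ _⟩
  · rintro ⟨y, rfl⟩; exact ⟨y, mul_comm _ _⟩

theorem lev_surjective (H : Approx t₀ φ a) (n : ℕ) :
    Function.Surjective (lev φ (algebraMap R₀ B t₀) n) := by
  intro b
  obtain ⟨b, rfl⟩ := Ideal.Quotient.mk_surjective b
  obtain ⟨f, y, rfl⟩ := H.P1 n b
  refine ⟨f, ?_⟩
  rw [lev_apply, map_add, (mk_eq_zero_iff _ _ _).mpr ⟨y, rfl⟩, add_zero]

theorem jac_lev (t : B) (n : ℕ) (f : MvPolynomial (Fin r) R₀) :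
    jac (lev φ t n) f = fun i => Ideal.Quotient.mk (Ideal.span {t ^ n}) (jac φ f i) := rfl

/-- the rows at the level `n` -/
def vlev (v : Fin c → Fin r → B) (t : B) (n : ℕ) : Fin c → Fin r → B ⧸ Ideal.span {t ^ n} :=
  fun j i => Ideal.Quotient.mk _ (v j i)

theorem al_vlev (v : Fin c → Fin r → B) (t : B) (n : ℕ) (x : Fin c → B) :
    al (vlev v t n) (fun j => Ideal.Quotient.mk _ (x j)) =
      fun i => Ideal.Quotient.mk (Ideal.span {t ^ n}) (al v x i) := by
  funext i
  rw [al_apply, al_apply, Finset.sum_apply, Finset.sum_apply, map_sum]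
  rfl

theorem al_vlev_injective (t : B) (v : Fin c → Fin r → B) (n : ℕ)
    (h : ∀ (x : Fin c → B) (z : Fin r → B), al v x = t ^ n • z → ∃ x', x = t ^ n • x') :
    Function.Injective (al (vlev v t n)) := by
  rw [injective_iff_map_eq_zero]
  intro x hx
  choose y hy using fun j => Ideal.Quotient.mk_surjective (x j)
  obtain rfl : (fun j => Ideal.Quotient.mk _ (y j)) = x := funext hy
  rw [al_vlev] at hx
  have h1 : ∀ i, ∃ z, al v y i = t ^ n * z := fun i => (mk_eq_zero_iff t n _).mp (congrFun hx i)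
  choose z hz using h1
  obtain ⟨x', hx'⟩ := h y z (funext hz)
  funext j
  exact (mk_eq_zero_iff t n _).mpr ⟨x' j, congrFun hx' j⟩

theorem vlev_eq {v : Fin c → Fin r → B}
    (hv : ∀ n j, ∃ z : Fin r → B, v j - jac φ (a n j) = algebraMap R₀ B t₀ ^ n • z) (n : ℕ) (j : Fin c) :
    vlev v (algebraMap R₀ B t₀) n j = jac (lev φ (algebraMap R₀ B t₀) n) (a n j) := by
  obtain ⟨z, hz⟩ := hv n j
  funext i
  rw [jac_lev, vlev, ← sub_eq_zero, ← map_sub, mk_eq_zero_iff]
  exact ⟨z i, congrFun hz i⟩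

theorem exact_lev (H : Approx t₀ φ a) {v : Fin c → Fin r → B}
    (hv : ∀ n j, ∃ z : Fin r → B, v j - jac φ (a n j) = algebraMap R₀ B t₀ ^ n • z) (n : ℕ) :
    Function.Exact (al (vlev v (algebraMap R₀ B t₀) n)) (pr (lev φ (algebraMap R₀ B t₀) n)) := by
  intro u
  rw [pr_eq_zero_iff _ (lev_surjective H n)]
  constructor
  · rintro ⟨f, hf, hfu⟩
    rw [lev_apply, mk_eq_zero_iff] at hf
    obtain ⟨y, hy⟩ := hf
    obtain ⟨g, h, rfl⟩ := H.P2 n f y hy
    refine ⟨fun j => lev φ (algebraMap R₀ B t₀) n (g j), ?_⟩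
    rw [← hfu, al_apply, jac_add, jac_sum]
    have h1 : ∀ j, jac (lev φ (algebraMap R₀ B t₀) n) (g j * a n j) =
        lev φ (algebraMap R₀ B t₀) n (g j) • vlev v (algebraMap R₀ B t₀) n j := by
      intro j
      have h2 : lev φ (algebraMap R₀ B t₀) n (a n j) = 0 := by
        rw [lev_apply, mk_eq_zero_iff]
        exact H.P3 n j
      rw [jac_mul, h2, zero_smul, add_zero, vlev_eq hv]
    have h3 : jac (lev φ (algebraMap R₀ B t₀) n) (C t₀ ^ n * h) = 0 := by
      funext i
      rw [jac_lev, jac_C_pow_mul]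
      exact (mk_eq_zero_iff _ _ _).mpr ⟨jac φ h i, rfl⟩
    simp_rw [h1]
    rw [h3, add_zero]
  · rintro ⟨x, rfl⟩
    choose g hg using fun j => lev_surjective H n (x j)
    refine ⟨∑ j, g j * a n j, ?_, ?_⟩
    · rw [map_sum]
      refine Finset.sum_eq_zero fun j _ => ?_
      have h2 : lev φ (algebraMap R₀ B t₀) n (a n j) = 0 := by
        rw [lev_apply, mk_eq_zero_iff]
        exact H.P3 n j
      rw [map_mul, h2, mul_zero]
    · rw [jac_sum, al_apply]
      refine Finset.sum_congr rfl fun j _ => ?_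
      have h2 : lev φ (algebraMap R₀ B t₀) n (a n j) = 0 := by
        rw [lev_apply, mk_eq_zero_iff]
        exact H.P3 n j
      rw [jac_mul, h2, zero_smul, add_zero, vlev_eq hv, hg]

theorem main_level {T : Type u} [AddCommGroup T] [Module B T] (H : Approx t₀ φ a)
    {v : Fin c → Fin r → B}
    (hv : ∀ n j, ∃ z : Fin r → B, v j - jac φ (a n j) = algebraMap R₀ B t₀ ^ n • z)
    (ht : ∀ b : B, algebraMap R₀ B t₀ * b = 0 → b = 0)
    (h0 : ∀ (x : Fin c → B) (z : Fin r → B), al v x = algebraMap R₀ B t₀ • z →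
      ∃ x', x = algebraMap R₀ B t₀ • x')
    (x : Fin c → T) (hx : Submodule.span B (Set.range x) = ⊤)
    (hrel : Submodule.span B (Set.range fun (i : Fin r) (j : Fin c) => al v (Pi.single j 1) i) =
        rel (R := B) x) (n : ℕ) :
    Nonempty (TensorProduct B (B ⧸ Ideal.span {algebraMap R₀ B t₀ ^ n}) T
        ≃ₗ[B ⧸ Ideal.span {algebraMap R₀ B t₀ ^ n}]
      Abelian.Ext.{u}
        (ModuleCat.of (B ⧸ Ideal.span {algebraMap R₀ B t₀ ^ n})
          (KaehlerDifferential R₀ (B ⧸ Ideal.span {algebraMap R₀ B t₀ ^ n})))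
        (ModuleCat.of (B ⧸ Ideal.span {algebraMap R₀ B t₀ ^ n})
          (B ⧸ Ideal.span {algebraMap R₀ B t₀ ^ n})) 1) := by
  classical
  set t := algebraMap R₀ B t₀ with hteq
  obtain ⟨y, hy, hyrel⟩ := exists_generators_ext (al (vlev v t n)) (pr (lev φ t n))
    (al_vlev_injective t v n (level_injective t ht v h0 n)) (pr_surjective _ (lev_surjective H n))
    (exact_lev H hv n)
  refine nonempty_equiv_of_rel_eq (fun j => (1 : B ⧸ Ideal.span {t ^ n}) ⊗ₜ[B] x j) y
    (span_tmul_eq_top _ x hx) hy ?_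
  rw [← rel_baseChange _ x hx, ← hyrel, ← hrel]
  have hs : ∀ (C' : Type u) [CommRing C'] (w : Fin c → Fin r → C') (i : Fin r) (j : Fin c),
      al w (Pi.single j 1) i = w j i := by
    intro C' _ w i j
    rw [al, Fintype.linearCombination_apply_single, one_smul]
  simp_rw [hs]
  apply le_antisymm
  · rw [Submodule.span_le]
    rintro _ ⟨w, hw, rfl⟩
    rw [SetLike.mem_coe] at hw ⊢
    induction hw using Submodule.span_induction with
    | mem w hw =>
      obtain ⟨i, rfl⟩ := hw
      exact Submodule.subset_span ⟨i, rfl⟩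
    | zero =>
      have : (algebraMap B (B ⧸ Ideal.span {t ^ n}) ∘ (0 : Fin c → B)) = 0 := by
        funext j; exact map_zero _
      change (algebraMap B (B ⧸ Ideal.span {t ^ n}) ∘ (0 : Fin c → B)) ∈ _
      rw [this]
      exact Submodule.zero_mem _
    | add w w' _ _ h1 h2 =>
      have : (algebraMap B (B ⧸ Ideal.span {t ^ n}) ∘ (w + w')) =
          (algebraMap B (B ⧸ Ideal.span {t ^ n}) ∘ w) + (algebraMap B (B ⧸ Ideal.span {t ^ n}) ∘ w') := by
        funext j; exact map_add _ _ _
      change (algebraMap B (B ⧸ Ideal.span {t ^ n}) ∘ (w + w')) ∈ _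
      rw [this]
      exact Submodule.add_mem _ h1 h2
    | smul b w _ h1 =>
      have : (algebraMap B (B ⧸ Ideal.span {t ^ n}) ∘ (b • w)) =
          algebraMap B (B ⧸ Ideal.span {t ^ n}) b • (algebraMap B (B ⧸ Ideal.span {t ^ n}) ∘ w) := by
        funext j; exact map_mul _ _ _
      change (algebraMap B (B ⧸ Ideal.span {t ^ n}) ∘ (b • w)) ∈ _
      rw [this]
      exact Submodule.smul_mem _ _ h1
  · rw [Submodule.span_le]
    rintro _ ⟨i, rfl⟩
    exact Submodule.subset_span ⟨fun j => v j i, Submodule.subset_span ⟨i, rfl⟩, rfl⟩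

end Level

end K360.FormalCI4
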