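import Groth.Agent.Fitt.K360.JacPres

set_option autoImplicit false

/-!
# Injectivity of the Jacobian matrix of a reduced complete intersection over a perfect field
-/

namespace K360.JacInj

open KaehlerDifferential Algebra MvPolynomial TensorProduct K360.JacPres

universe u

/-- In a relation of a weakly regular sequence modulo the square of the ideal, the coefficients are in the
ideal. -/
theorem mem_of_sum_mem_sq {A : Type u} [CommRing A] {c : ℕ} (a : Fin c → A)
    (ha : RingTheory.Sequence.IsWeaklyRegular A (List.ofFn a)) (g : Fin c → A)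
    (hg : ∑ j, g j * a j ∈ Ideal.span (Set.range a) ^ 2) (j : Fin c) :
    g j ∈ Ideal.span (Set.range a) := by
  set I := Ideal.span (Set.range a) with hI
  -- write the sum with coefficients in `I`
  have h1 : ∀ y ∈ I ^ 2, ∃ d : Fin c → A, (∀ j, d j ∈ I) ∧ y = ∑ j, d j * a j := by
    intro y hy
    rw [pow_two] at hy
    refine Submodule.mul_induction_on hy ?_ ?_
    · intro m hm n hn
      rw [hI, Ideal.mem_span_range_iff_exists_fun] at hn
      obtain ⟨d, rfl⟩ := hn
      refine ⟨fun j => m * d j, fun j => I.mul_mem_right _ hm, ?_⟩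
      rw [Finset.mul_sum]
      exact Finset.sum_congr rfl fun j _ => by ring
    · intro x y hx hy
      obtain ⟨d, hd, rfl⟩ := hx
      obtain ⟨d', hd', rfl⟩ := hy
      refine ⟨fun j => d j + d' j, fun j => I.add_mem (hd j) (hd' j), ?_⟩
      rw [← Finset.sum_add_distrib]
      exact Finset.sum_congr rfl fun j _ => by ring
  obtain ⟨d, hd, hsum⟩ := h1 _ hg
  have h2 : ∑ j, a j • (g j - d j) = 0 := by
    have : ∑ j, a j • (g j - d j) = ∑ j, g j * a j - ∑ j, d j * a j := by
      rw [← Finset.sum_sub_distrib]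
      exact Finset.sum_congr rfl fun j _ => by rw [smul_eq_mul]; ring
    rw [this, hsum, sub_self]
  have h3 := Groth.Agent.Ega4dB.KoszulReg.koszulH1Zero_of_isWeaklyRegular a A ha (fun j => g j - d j) h2
  have h4 : ∀ v ∈ Submodule.span A {v : Fin c → A | ∃ (i j : Fin c) (x : A),
      v = a j • (Pi.single i x : Fin c → A) - a i • (Pi.single j x : Fin c → A)}, ∀ j, v j ∈ I := by
    intro v hv
    have hai : ∀ i, a i ∈ I := fun i => Ideal.subset_span ⟨i, rfl⟩
    induction hv using Submodule.span_induction with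
    | mem v hv =>
      obtain ⟨i, j, x, rfl⟩ := hv
      intro l
      rw [Pi.sub_apply, Pi.smul_apply, Pi.smul_apply, smul_eq_mul, smul_eq_mul]
      exact I.sub_mem (I.mul_mem_right _ (hai j)) (I.mul_mem_right _ (hai i))
    | zero => exact fun _ => I.zero_mem
    | add v w _ _ hv hw => exact fun l => I.add_mem (hv l) (hw l)
    | smul r v _ hv => exact fun l => I.mul_mem_left _ (hv l)
  have h5 := h4 _ h3 j
  have h6 : g j = (g j - d j) + d j := by ring
  rw [h6]
  exact I.add_mem h5 (hd j)

section

variable {k : Type u} [Field k] [PerfectField k] {r c : ℕ} {B : Type u} [CommRing B] [Algebra k B]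
  [IsReduced B]

theorem aux [Algebra (MvPolynomial (Fin r) k) B] [IsScalarTower k (MvPolynomial (Fin r) k) B]
    (hs : Function.Surjective (algebraMap (MvPolynomial (Fin r) k) B))
    (a : Fin c → MvPolynomial (Fin r) k)
    (hker : RingHom.ker (algebraMap (MvPolynomial (Fin r) k) B) = Ideal.span (Set.range a))
    (hqr : ∀ g : Fin c → MvPolynomial (Fin r) k, ∑ j, g j * a j ∈ Ideal.span (Set.range a) ^ 2 →
      ∀ j, g j ∈ Ideal.span (Set.range a))
    (b : Fin c → B)
    (hb : ∑ j, b j • jac (IsScalarTower.toAlgHom k (MvPolynomial (Fin r) k) B) (a j) = 0) : b = 0 := by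
  have hft : Algebra.FiniteType k B :=
    Algebra.FiniteType.of_surjective (IsScalarTower.toAlgHom k (MvPolynomial (Fin r) k) B) hs
  let P : Algebra.Extension k B := ⟨MvPolynomial (Fin r) k, _, Function.surjInv_eq hs⟩
  have hP : Algebra.FormallySmooth k P.Ring :=
    inferInstanceAs (Algebra.FormallySmooth k (MvPolynomial (Fin r) k))
  choose g hg using fun j => hs (b j)
  let f : MvPolynomial (Fin r) k := ∑ j, g j * a j
  have haj : ∀ j, algebraMap (MvPolynomial (Fin r) k) B (a j) = 0 := fun j => by
    rw [← RingHom.mem_ker, hker]; exact Ideal.subset_span ⟨j, rfl⟩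
  have hf : f ∈ P.ker := by
    change f ∈ RingHom.ker (algebraMap (MvPolynomial (Fin r) k) B)
    rw [hker]
    exact Ideal.sum_mem _ fun j _ => Ideal.mul_mem_left _ _ (Ideal.subset_span ⟨j, rfl⟩)
  have h1 : P.cotangentComplex (Algebra.Extension.Cotangent.mk ⟨f, hf⟩) = 0 := by
    rw [Algebra.Extension.cotangentComplex_mk]
    change (1 : B) ⊗ₜ[MvPolynomial (Fin r) k] D k (MvPolynomial (Fin r) k) f = 0
    rw [← LinearEquiv.map_eq_zero_iff (bas (B := B) (k := k) (r := r)).equivFun, bas_equivFun, jac_sum]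
    rw [← hb]
    refine Finset.sum_congr rfl fun j _ => ?_
    rw [jac_mul]
    change algebraMap (MvPolynomial (Fin r) k) B (g j) • _ + algebraMap (MvPolynomial (Fin r) k) B (a j) • _ = _
    rw [haj, zero_smul, add_zero, hg]
  let h : P.H1Cotangent := ⟨Algebra.Extension.Cotangent.mk ⟨f, hf⟩, h1⟩
  have h2 : ∀ p ∈ minimalPrimes B, ∀ j, b j ∈ p := by
    intro p hp j
    have hpp : p.IsPrime := hp.1.1
    obtain ⟨s, hsp, hs0⟩ := exists_smul_h1Cotangent k B p hp (P.equivH1CotangentOfFormallySmooth h)
    rw [← map_smul, LinearEquiv.map_eq_zero_iff] at hs0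
    have h3 : s • (Algebra.Extension.Cotangent.mk (P := P) ⟨f, hf⟩) = 0 := congrArg Subtype.val hs0
    obtain ⟨s', rfl⟩ := hs s
    have h4 : Algebra.Extension.Cotangent.mk (P := P) (s' • (⟨f, hf⟩ : P.ker)) = 0 := by
      have h5 : algebraMap (MvPolynomial (Fin r) k) B s' •
          (Algebra.Extension.Cotangent.mk (P := P) ⟨f, hf⟩) =
          Algebra.Extension.Cotangent.mk (P := P) (s' • (⟨f, hf⟩ : P.ker)) := by
        rw [map_smul]
        exact algebraMap_smul (R := P.Ring) B s' (Algebra.Extension.Cotangent.mk (P := P) ⟨f, hf⟩)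
      rw [← h5, h3]
    rw [Algebra.Extension.Cotangent.mk_eq_zero_iff] at h4
    change s' * f ∈ RingHom.ker (algebraMap (MvPolynomial (Fin r) k) B) ^ 2 at h4
    rw [hker] at h4
    have h6 := hqr (fun j => s' * g j) (by
      have : ∑ j, s' * g j * a j = s' * f := by
        rw [Finset.mul_sum]
        exact Finset.sum_congr rfl fun j _ => by ring
      rw [this]; exact h4) j
    rw [← hker, RingHom.mem_ker, map_mul, hg] at h6
    have h7 : algebraMap (MvPolynomial (Fin r) k) B s' * b j ∈ p := by
      rw [h6]; exact p.zero_mem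
    exact (hpp.mem_or_mem h7).resolve_left hsp
  funext j
  have h3 : b j ∈ nilradical B := by
    rw [nilradical, Ideal.radical_eq_sInf, Ideal.mem_sInf]
    rintro p ⟨-, hp⟩
    obtain ⟨q, hq, hqp⟩ := Ideal.exists_minimalPrimes_le (I := (⊥ : Ideal B)) (J := p) bot_le
    exact hqp (h2 q hq j)
  rw [nilradical_eq_zero] at h3
  exact h3

/-- The Jacobian matrix of a reduced complete intersection over a perfect field is injective. -/
theorem jac_injective (φ : MvPolynomial (Fin r) k →ₐ[k] B) (hφ : Function.Surjective φ)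
    (a : Fin c → MvPolynomial (Fin r) k)
    (hker : RingHom.ker φ.toRingHom = Ideal.span (Set.range a))
    (hqr : ∀ g : Fin c → MvPolynomial (Fin r) k, ∑ j, g j * a j ∈ Ideal.span (Set.range a) ^ 2 →
      ∀ j, g j ∈ Ideal.span (Set.range a))
    (b : Fin c → B) (hb : ∑ j, b j • jac φ (a j) = 0) : b = 0 := by
  let _ : Algebra (MvPolynomial (Fin r) k) B := φ.toAlgebra
  have : IsScalarTower k (MvPolynomial (Fin r) k) B :=
    IsScalarTower.of_algebraMap_eq' φ.comp_algebraMap.symm
  have h : IsScalarTower.toAlgHom k (MvPolynomial (Fin r) k) B = φ := AlgHom.ext fun _ => rfl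
  exact aux (k := k) (r := r) (B := B) hφ a hker hqr b (by rw [h]; exact hb)

end

end K360.JacInj
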