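import Groth.Agent.Ega4dB.KoszulReg
import Mathlib.RingTheory.Kaehler.Polynomial
import Mathlib.RingTheory.Smooth.Basic
import Mathlib.RingTheory.Smooth.Field
import Mathlib.RingTheory.Etale.Kaehler
import Mathlib.RingTheory.Localization.AtPrime.Basic
import Mathlib.RingTheory.EssentialFiniteness
import Mathlib.FieldTheory.Perfect

set_option autoImplicit false

/-!
# The Jacobian presentation of the module of differentials, and its injectivity for reduced complete
intersections over a perfect field
-/

namespace K360.JacPres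

open KaehlerDifferential Algebra MvPolynomial TensorProduct

universe u

section Pres

variable {k : Type u} [CommRing k] {r : ℕ} {B : Type u} [CommRing B] [Algebra k B]

/-- The Jacobian row of a polynomial. -/
noncomputable def jac (φ : MvPolynomial (Fin r) k →ₐ[k] B) (f : MvPolynomial (Fin r) k) : Fin r → B :=
  fun i => φ (pderiv i f)

theorem jac_add (φ : MvPolynomial (Fin r) k →ₐ[k] B) (f g : MvPolynomial (Fin r) k) :
    jac φ (f + g) = jac φ f + jac φ g := by
  funext i; simp [jac]

theorem jac_mul (φ : MvPolynomial (Fin r) k →ₐ[k] B) (f g : MvPolynomial (Fin r) k) :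
    jac φ (f * g) = φ f • jac φ g + φ g • jac φ f := by
  funext i; simp [jac, Derivation.leibniz]

theorem jac_sum (φ : MvPolynomial (Fin r) k →ₐ[k] B) {ι : Type*} (s : Finset ι)
    (f : ι → MvPolynomial (Fin r) k) : jac φ (∑ j ∈ s, f j) = ∑ j ∈ s, jac φ (f j) := by
  funext i; simp [jac, Finset.sum_apply]

/-- The map `B^r → Ω_{B/k}`. -/
noncomputable def pr (φ : MvPolynomial (Fin r) k →ₐ[k] B) : (Fin r → B) →ₗ[B] Ω[B⁄k] :=
  Fintype.linearCombination B (fun i => D k B (φ (X i)))

section Aux

variable [Algebra (MvPolynomial (Fin r) k) B] [IsScalarTower k (MvPolynomial (Fin r) k) B]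

/-- the basis of `B ⊗ Ω_A` -/
noncomputable def bas : Module.Basis (Fin r) B (B ⊗[MvPolynomial (Fin r) k] Ω[MvPolynomial (Fin r) k⁄k]) :=
  (mvPolynomialBasis k (Fin r)).baseChange B

omit [IsScalarTower k (MvPolynomial (Fin r) k) B] [Algebra k B] in
theorem bas_apply (i : Fin r) : bas (B := B) (k := k) i =
    (1 : B) ⊗ₜ[MvPolynomial (Fin r) k] D k (MvPolynomial (Fin r) k) (X i) := by
  rw [bas, Module.Basis.baseChange_apply, mvPolynomialBasis_apply]

theorem bas_equivFun (f : MvPolynomial (Fin r) k) :
    bas.equivFun ((1 : B) ⊗ₜ[MvPolynomial (Fin r) k] D k (MvPolynomial (Fin r) k) f) =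
      jac (IsScalarTower.toAlgHom k (MvPolynomial (Fin r) k) B) f := by
  funext i
  rw [Module.Basis.equivFun_apply, bas, Module.Basis.baseChange_repr_tmul, mvPolynomialBasis_repr_apply,
    jac, Algebra.smul_def, mul_one]
  rfl

theorem mapBaseChange_equivFun_symm (v : Fin r → B) :
    mapBaseChange k (MvPolynomial (Fin r) k) B (bas.equivFun.symm v) =
      pr (IsScalarTower.toAlgHom k (MvPolynomial (Fin r) k) B) v := by
  rw [Module.Basis.equivFun_symm_apply, map_sum, pr, Fintype.linearCombination_apply]
  refine Finset.sum_congr rfl fun i _ => ?_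
  rw [map_smul, bas_apply, mapBaseChange_tmul, map_D, one_smul]
  rfl

theorem pr_surjective_aux (hs : Function.Surjective (algebraMap (MvPolynomial (Fin r) k) B)) :
    Function.Surjective (pr (IsScalarTower.toAlgHom k (MvPolynomial (Fin r) k) B)) := by
  intro y
  obtain ⟨x, rfl⟩ := mapBaseChange_surjective k (MvPolynomial (Fin r) k) B hs y
  refine ⟨bas.equivFun x, ?_⟩
  rw [← mapBaseChange_equivFun_symm, LinearEquiv.symm_apply_apply]

theorem pr_eq_zero_iff_aux (hs : Function.Surjective (algebraMap (MvPolynomial (Fin r) k) B))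
    (v : Fin r → B) : pr (IsScalarTower.toAlgHom k (MvPolynomial (Fin r) k) B) v = 0 ↔
      ∃ f : MvPolynomial (Fin r) k, algebraMap (MvPolynomial (Fin r) k) B f = 0 ∧
        jac (IsScalarTower.toAlgHom k (MvPolynomial (Fin r) k) B) f = v := by
  rw [← mapBaseChange_equivFun_symm,
    exact_kerCotangentToTensor_mapBaseChange k (MvPolynomial (Fin r) k) B hs]
  constructor
  · rintro ⟨y, hy⟩
    obtain ⟨x, rfl⟩ := Ideal.toCotangent_surjective _ y
    refine ⟨x.1, x.2, ?_⟩
    rw [kerCotangentToTensor_toCotangent] at hy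
    rw [← bas_equivFun, hy, LinearEquiv.apply_symm_apply]
  · rintro ⟨f, hf, rfl⟩
    refine ⟨Ideal.toCotangent _ ⟨f, hf⟩, ?_⟩
    rw [kerCotangentToTensor_toCotangent, ← bas_equivFun, LinearEquiv.symm_apply_apply]

end Aux

theorem pr_surjective (φ : MvPolynomial (Fin r) k →ₐ[k] B) (hφ : Function.Surjective φ) :
    Function.Surjective (pr φ) := by
  let _ : Algebra (MvPolynomial (Fin r) k) B := φ.toAlgebra
  have : IsScalarTower k (MvPolynomial (Fin r) k) B :=
    IsScalarTower.of_algebraMap_eq' φ.comp_algebraMap.symm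
  have h := pr_surjective_aux (k := k) (r := r) (B := B) hφ
  have : IsScalarTower.toAlgHom k (MvPolynomial (Fin r) k) B = φ := AlgHom.ext fun _ => rfl
  rwa [this] at h

theorem pr_eq_zero_iff (φ : MvPolynomial (Fin r) k →ₐ[k] B) (hφ : Function.Surjective φ)
    (v : Fin r → B) : pr φ v = 0 ↔ ∃ f : MvPolynomial (Fin r) k, φ f = 0 ∧ jac φ f = v := by
  let _ : Algebra (MvPolynomial (Fin r) k) B := φ.toAlgebra
  have : IsScalarTower k (MvPolynomial (Fin r) k) B :=
    IsScalarTower.of_algebraMap_eq' φ.comp_algebraMap.symm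
  have h := pr_eq_zero_iff_aux (k := k) (r := r) (B := B) hφ v
  have : IsScalarTower.toAlgHom k (MvPolynomial (Fin r) k) B = φ := AlgHom.ext fun _ => rfl
  rwa [this] at h

end Pres

section Perfect

/-- A reduced algebra over a perfect field has, at each minimal prime, no first cotangent homology. -/
theorem exists_smul_h1Cotangent (k B : Type u) [Field k] [PerfectField k] [CommRing B] [Algebra k B]
    [Algebra.EssFiniteType k B] [IsReduced B] (p : Ideal B) (hp : p ∈ minimalPrimes B)
    (x : H1Cotangent k B) : ∃ s : B, s ∉ p ∧ s • x = 0 := by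
  have hpp : p.IsPrime := hp.1.1
  have hf : IsField (Localization.AtPrime p) := by
    rw [← PrimeSpectrum.subsingleton_iff_isField_of_isReduced]
    exact IsLocalization.subsingleton_primeSpectrum_of_mem_minimalPrimes _ hp _
  let := hf.toField
  have : Algebra.EssFiniteType B (Localization.AtPrime p) := .of_isLocalization _ p.primeCompl
  have : Algebra.EssFiniteType k (Localization.AtPrime p) := .comp _ B _
  have hfs : Algebra.FormallySmooth k (Localization.AtPrime p) := Algebra.FormallySmooth.of_perfectField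
  have hsub : Subsingleton (H1Cotangent k (Localization.AtPrime p)) := hfs.subsingleton_h1Cotangent
  have h1 : Algebra.H1Cotangent.map k k B (Localization.AtPrime p) x = 0 := Subsingleton.elim _ _
  obtain ⟨s, hs⟩ := (IsLocalizedModule.eq_zero_iff p.primeCompl
    (Algebra.H1Cotangent.map k k B (Localization.AtPrime p))).mp h1
  exact ⟨s, s.2, hs⟩

end Perfect

end K360.JacPres
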