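import Groth.Agent.Fitt.K360.Cramer
import Mathlib.RingTheory.Localization.Integer

set_option autoImplicit false

/-!
# Modules with a principal Fitting ideal
-/

namespace K360.FittPrincipal

open TensorProduct K360.FittBasic K360.FittMinors K360.FittFiber K360.FittLocFree K360.FittCramer

universe u v

section Away

variable {R : Type u} [CommRing R] {N : Type v} [AddCommGroup N] [Module R N]

theorem span_localizedModule_eq_top' (S : Submonoid R) {ι : Type*} (m : ι → N)
    (hm : ∀ x : N, ∃ f ∈ S, f • x ∈ Submodule.span R (Set.range m)) :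
    Submodule.span (Localization S) (Set.range fun i => LocalizedModule.mk (m i) (1 : S)) = ⊤ := by
  rw [eq_top_iff]
  rintro y -
  induction y using LocalizedModule.induction_on with
  | h x s =>
    set P := Submodule.span (Localization S) (Set.range fun i => LocalizedModule.mk (m i) (1 : S))
    have h1 : ∀ z ∈ Submodule.span R (Set.range m), LocalizedModule.mk z (1 : S) ∈ P := by
      intro z hz
      induction hz using Submodule.span_induction with
      | mem z hz =>
        obtain ⟨i, rfl⟩ := hz
        exact Submodule.subset_span ⟨i, rfl⟩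
      | zero => rw [LocalizedModule.zero_mk]; exact P.zero_mem
      | add z w _ _ hz hw =>
        have : LocalizedModule.mk (z + w) (1 : S) = LocalizedModule.mk z 1 + LocalizedModule.mk w 1 := by
          simp
        rw [this]; exact P.add_mem hz hw
      | smul c z _ hz =>
        have : LocalizedModule.mk (c • z) (1 : S) = (algebraMap R (Localization S) c) •
            LocalizedModule.mk z 1 := by
          rw [algebraMap_smul, LocalizedModule.smul'_mk]
        rw [this]; exact P.smul_mem _ hz
    obtain ⟨f, hf, hfx⟩ := hm x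
    have h2 := h1 _ hfx
    have h3 : LocalizedModule.mk x s = Localization.mk (1 : R) (⟨f, hf⟩ * s) •
        LocalizedModule.mk (f • x) (1 : S) := by
      rw [LocalizedModule.mk_smul_mk, one_smul, mul_one]
      rw [LocalizedModule.mk_eq]
      exact ⟨1, by simp [Submonoid.smul_def, mul_smul, mul_comm]⟩
    rw [h3]
    exact P.smul_mem _ h2

/-- Elements which generate up to `g`-powers and have only `g`-torsion relations give a basis after
inverting `g`. -/
theorem exists_basis_away {ι : Type*} [Fintype ι] (y : ι → N) (g : R)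
    (hgen : ∀ x : N, ∃ n : ℕ, g ^ n • x ∈ Submodule.span R (Set.range y))
    (hrel : ∀ c : ι → R, ∑ i, c i • y i = 0 → ∀ i, ∃ n : ℕ, g ^ n * c i = 0) :
    Nonempty (Module.Basis ι (Localization.Away g) (LocalizedModule (Submonoid.powers g) N)) := by
  classical
  have hspan := span_localizedModule_eq_top' (Submonoid.powers g) y (fun x => by
    obtain ⟨n, hn⟩ := hgen x
    exact ⟨g ^ n, ⟨n, rfl⟩, hn⟩)
  have hli : LinearIndependent (Localization.Away g)
      (fun i => LocalizedModule.mk (y i) (1 : Submonoid.powers g)) := by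
    rw [Fintype.linearIndependent_iff]
    intro c hc
    obtain ⟨b, hb⟩ := IsLocalization.exist_integer_multiples_of_finset (Submonoid.powers g)
      (Finset.univ.image c)
    have hb' : ∀ i, ∃ a : R, algebraMap R (Localization.Away g) a = (b : R) • c i := fun i =>
      hb (c i) (Finset.mem_image_of_mem c (Finset.mem_univ i))
    choose a ha using hb'
    have h1 : LocalizedModule.mk (∑ i, a i • y i) (1 : Submonoid.powers g) = 0 := by
      have h2 : LocalizedModule.mk (∑ i, a i • y i) (1 : Submonoid.powers g) =
          ∑ i, (algebraMap R (Localization.Away g) (a i)) •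
            LocalizedModule.mk (y i) (1 : Submonoid.powers g) := by
        have := map_sum (LocalizedModule.mkLinearMap (Submonoid.powers g) N)
          (fun i => a i • y i) Finset.univ
        simp only [LocalizedModule.mkLinearMap_apply] at this
        rw [this]
        refine Finset.sum_congr rfl fun i _ => ?_
        rw [algebraMap_smul, LocalizedModule.smul'_mk]
      rw [h2]
      have h3 : ∀ i, (algebraMap R (Localization.Away g) (a i)) •
            LocalizedModule.mk (y i) (1 : Submonoid.powers g) =
          (b : R) • (c i • LocalizedModule.mk (y i) (1 : Submonoid.powers g)) := by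
        intro i
        rw [ha, smul_assoc]
      simp_rw [h3, ← Finset.smul_sum]
      change (b : R) • (∑ i, c i • LocalizedModule.mk (y i) (1 : Submonoid.powers g)) = 0
      rw [hc, smul_zero]
    have h2 : ∃ n : ℕ, g ^ n • ∑ i, a i • y i = 0 := by
      rw [← LocalizedModule.zero_mk 1, LocalizedModule.mk_eq] at h1
      obtain ⟨⟨_, n, rfl⟩, hu⟩ := h1
      refine ⟨n, ?_⟩
      simpa [Submonoid.smul_def] using hu
    obtain ⟨n, hn⟩ := h2
    intro i
    have h4 : ∑ i, (g ^ n * a i) • y i = 0 := by
      rw [← hn, Finset.smul_sum]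
      exact Finset.sum_congr rfl fun i _ => mul_smul _ _ _
    obtain ⟨m, hm⟩ := hrel _ h4 i
    have hu : IsUnit (algebraMap R (Localization.Away g) g) :=
      IsLocalization.Away.algebraMap_isUnit g
    have h5 : algebraMap R (Localization.Away g) (a i) = 0 := by
      have := congrArg (algebraMap R (Localization.Away g)) hm
      rw [map_mul, map_mul, map_pow, map_pow, map_zero] at this
      exact (hu.pow n).mul_right_eq_zero.mp ((hu.pow m).mul_right_eq_zero.mp this)
    rw [ha, Algebra.smul_def] at h5
    exact (IsLocalization.map_units (Localization.Away g) b).mul_right_eq_zero.mp h5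
  exact ⟨Module.Basis.mk hli hspan.ge⟩

/-- Local version of the previous lemma, as needed for `IsLocFree`. -/
theorem free_away {ι : Type*} [Fintype ι] (y : ι → N) (g : R) [Nontrivial (Localization.Away g)]
    (hgen : ∀ x : N, ∃ n : ℕ, g ^ n • x ∈ Submodule.span R (Set.range y))
    (hrel : ∀ c : ι → R, ∑ i, c i • y i = 0 → ∀ i, ∃ n : ℕ, g ^ n * c i = 0) :
    Module.Free (Localization.Away g) (LocalizedModule (Submonoid.powers g) N) ∧
      Module.finrank (Localization.Away g) (LocalizedModule (Submonoid.powers g) N) =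
        Fintype.card ι := by
  obtain ⟨b⟩ := exists_basis_away y g hgen hrel
  exact ⟨Module.Free.of_basis b, Module.finrank_eq_card_basis b⟩

end Away

section Principal

variable {R : Type u} [CommRing R] {M : Type v} [AddCommGroup M] [Module R M] [Module.Finite R M]
variable {N : Type*} [AddCommGroup N] [Module R N]

/-- If `Fit_k(M) = (f)` with `f` a nonzerodivisor then, at every prime, some minor is `g f` with `g`
invertible. -/
theorem exists_minor {k : ℕ} {f : R} (hf0 : f ∈ nonZeroDivisors R)
    (hf : Fitt.ideal R M k = Ideal.span {f}) (p : Ideal R) [p.IsPrime] :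
    ∃ (n : ℕ) (x : Fin n → M) (z : Fin (n - k) → (Fin n → R)) (e : Fin (n - k) → Fin n) (g : R),
      k ≤ n ∧ Submodule.span R (Set.range x) = ⊤ ∧ Function.Injective e ∧
      (∀ j, ∑ i, z j i • x i = 0) ∧ g ∉ p ∧ (Matrix.of fun a b => z b (e a)).det = g * f := by
  classical
  obtain ⟨n, x, hkn, hx⟩ := exists_generators_ge (R := R) (M := M) k
  have h1 := ideal_eq_minors (κ := Fin (n - k)) x hx k (by simp)
  -- otherwise all minors lie in `p f`
  by_contra hcon
  have hle : Fitt.ideal R M k ≤ p * Ideal.span {f} := by
    rw [h1, Ideal.span_le]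
    rintro _ ⟨z, e, hz, rfl⟩
    have h2 : (Matrix.of fun a b => z b (e a)).det ∈ Ideal.span {f} := by
      rw [← hf, h1]; exact Ideal.subset_span ⟨z, e, hz, rfl⟩
    obtain ⟨g, hg⟩ := Ideal.mem_span_singleton'.mp h2
    by_cases hgp : g ∈ p
    · rw [← hg]; exact Ideal.mul_mem_mul hgp (Ideal.mem_span_singleton_self f)
    · exfalso
      refine hcon ⟨n, x, z, e, g, hkn, hx, ?_, hz, hgp, hg.symm⟩
      refine injective_of_det_ne_zero z e fun h0 => ?_
      rw [h0] at hg
      have : g = 0 := (mul_right_mem_nonZeroDivisors_eq_zero_iff hf0).mp hg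
      exact hgp (this ▸ p.zero_mem)
  have h3 : f ∈ p * Ideal.span {f} := hle (hf ▸ Ideal.mem_span_singleton_self f)
  rw [mul_comm, Ideal.mem_span_singleton_mul] at h3
  obtain ⟨g, hg, hgf⟩ := h3
  have h4 : (g - 1) * f = 0 := by rw [sub_mul, one_mul, mul_comm g f, hgf, sub_self]
  have h5 := (mul_right_mem_nonZeroDivisors_eq_zero_iff hf0).mp h4
  have h6 : g = 1 := by rwa [sub_eq_zero] at h5
  exact ‹p.IsPrime›.ne_top (p.eq_top_iff_one.mpr (h6 ▸ hg))

/-- the quotient in which the `f`-torsion dies is locally generated by `k` elements. -/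
theorem ideal_quotient_eq_top {k : ℕ} {f : R} (hf0 : f ∈ nonZeroDivisors R)
    (hf : Fitt.ideal R M k = Ideal.span {f}) (φ : M →ₗ[R] N) (hφ : Function.Surjective φ)
    (h1 : ∀ y, f • y = 0 → φ y = 0) : Fitt.ideal R N k = ⊤ := by
  classical
  have hfin : Module.Finite R N := Module.Finite.of_surjective φ hφ
  by_contra hne
  obtain ⟨m, hm, hle⟩ := Ideal.exists_le_maximal _ hne
  have := hm.isPrime
  obtain ⟨n, x, z, e, g, hkn, hx, he, hz, hgp, hd⟩ := exists_minor hf0 hf m
  refine (not_le_prime_iff_away k m).mpr ?_ hle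
  have h2 := smul_mem_span x hx k (by simp) z e he hz f g hf.le hd φ hφ h1
  have h3 := span_localizedModule_eq_top (Submonoid.powers g) _ g (Submonoid.mem_powers g) h2
  refine ⟨g, hgp, exists_pad _ h3 k ?_⟩
  rw [card_compl_range e he]
  simp only [Fintype.card_fin]
  omega

/-- The main statement on principal Fitting ideals: the quotient in which the `f`-torsion dies is locally
free of rank `k`. -/
theorem isLocFree_quotient {k : ℕ} {f : R} (hf0 : f ∈ nonZeroDivisors R)
    (hf : Fitt.ideal R M k = Ideal.span {f}) (hk : k = 0 ∨ Fitt.ideal R M (k - 1) = ⊥)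
    (φ : M →ₗ[R] N) (hφ : Function.Surjective φ)
    (h1 : ∀ y, f • y = 0 → φ y = 0) (h2 : ∀ y, φ y = 0 → ∃ b ∈ nonZeroDivisors R, b • y = 0) :
    IsLocFree R N k := by
  classical
  intro p hp
  obtain ⟨n, x, z, e, g, hkn, hx, he, hz, hgp, hd⟩ := exists_minor hf0 hf p
  have := nontrivial_away hgp
  refine ⟨g, hgp, ?_⟩
  have h3 := smul_mem_span x hx k (by simp) z e he hz f g hf.le hd φ hφ h1
  have h4 := free_away (fun i : {i // i ∉ Set.range e} => φ (x i.1)) g
    (fun y => ⟨1, by rw [pow_one]; exact h3 y⟩) (fun c hc i => by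
      have h5 : φ (∑ i, c i • x i.1) = 0 := by
        rw [map_sum, ← hc]
        exact Finset.sum_congr rfl fun i _ => map_smul _ _ _
      obtain ⟨b, hb, hb'⟩ := h2 _ h5
      rw [Finset.smul_sum] at hb'
      simp_rw [smul_smul] at hb'
      have h6 := relation_torsion x hx k (by simpa using hkn) (by simp) z e he hz hk _ hb' i
      rw [hd, mul_pow] at h6
      refine ⟨Fintype.card (Fin (n - k)), ?_⟩
      have h7 : (g ^ Fintype.card (Fin (n - k)) * c i) * (f ^ Fintype.card (Fin (n - k)) * b) = 0 := by
        rw [← h6]; ring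
      exact (mul_right_mem_nonZeroDivisors_eq_zero_iff
        (mul_mem (pow_mem hf0 _) hb)).mp h7)
  rw [card_compl_range e he] at h4
  simp only [Fintype.card_fin] at h4
  rwa [show n - (n - k) = k by omega] at h4

end Principal

section Local

variable {R : Type u} [CommRing R] [IsLocalRing R] {M : Type v} [AddCommGroup M] [Module R M]
  [Module.Finite R M]

/-- Over a local ring a generating set of a principal ideal contains a generator. -/
theorem exists_generator_of_span {s : Set R} {f : R} (hs : Ideal.span s = Ideal.span {f})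
    (hne : s.Nonempty) : ∃ d ∈ s, Ideal.span {d} = Ideal.span {f} := by
  by_contra hcon
  push Not at hcon
  have h1 : Ideal.span s ≤ IsLocalRing.maximalIdeal R * Ideal.span {f} := by
    rw [Ideal.span_le]
    intro d hd
    have h2 : d ∈ Ideal.span {f} := hs ▸ Ideal.subset_span hd
    obtain ⟨g, hg⟩ := Ideal.mem_span_singleton'.mp h2
    have h3 : g ∈ IsLocalRing.maximalIdeal R := by
      rw [IsLocalRing.mem_maximalIdeal, mem_nonunits_iff]
      intro hu
      apply hcon d hd
      rw [← hg]
      exact Ideal.span_singleton_mul_left_unit hu f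
    rw [← hg]
    exact Ideal.mul_mem_mul h3 (Ideal.mem_span_singleton_self f)
  rw [hs] at h1
  have h2 : Ideal.span {f} = (⊥ : Ideal R) := by
    refine Submodule.eq_bot_of_le_smul_of_le_jacobson_bot (IsLocalRing.maximalIdeal R) _
      ?_ ?_ ?_
    · exact ⟨{f}, by simp⟩
    · simpa using h1
    · exact IsLocalRing.maximalIdeal_le_jacobson _
  obtain ⟨d, hd⟩ := hne
  apply hcon d hd
  rw [h2]
  have : d ∈ Ideal.span s := Ideal.subset_span hd
  rw [hs, h2] at this
  rw [Ideal.span_singleton_eq_bot]
  exact this

theorem exists_generators_quotient (k : ℕ) (f : R) (hf : Fitt.ideal R M k = Ideal.span {f}) :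
    ∃ g : Fin k → M ⧸ LinearMap.ker (f • (LinearMap.id : M →ₗ[R] M)),
      Submodule.span R (Set.range g) = ⊤ := by
  classical
  by_cases hf0 : f = 0
  · subst hf0
    have h1 : LinearMap.ker ((0 : R) • (LinearMap.id : M →ₗ[R] M)) = ⊤ := by
      rw [zero_smul, LinearMap.ker_zero]
    refine ⟨fun _ => 0, ?_⟩
    have : Subsingleton (M ⧸ LinearMap.ker ((0 : R) • (LinearMap.id : M →ₗ[R] M))) := by
      rw [h1]
      infer_instance
    exact Subsingleton.elim _ _
  obtain ⟨n, x, hkn, hx⟩ := exists_generators_ge (R := R) (M := M) k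
  have h1 := ideal_eq_minors (κ := Fin (n - k)) x hx k (by simp)
  rw [hf] at h1
  obtain ⟨_, ⟨z, e, hz, rfl⟩, hd⟩ := exists_generator_of_span h1.symm (by
    by_contra hempty
    rw [Set.not_nonempty_iff_eq_empty] at hempty
    rw [hempty, Ideal.span_empty, Ideal.span_singleton_eq_bot] at h1
    exact hf0 h1)
  have he : Function.Injective e := by
    refine injective_of_det_ne_zero z e fun h0 => ?_
    rw [h0, Ideal.span_singleton_eq_bot.mpr rfl, eq_comm, Ideal.span_singleton_eq_bot] at hd
    exact hf0 hd
  set d := (Matrix.of fun a b => z b (e a)).det with hddef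
  have h2 : ∀ y : M, d • y = 0 → (LinearMap.ker (f • (LinearMap.id : M →ₗ[R] M))).mkQ y = 0 := by
    intro y hy
    rw [Submodule.mkQ_apply, Submodule.Quotient.mk_eq_zero, LinearMap.mem_ker]
    have h3 : f ∈ Ideal.span {d} := hd ▸ Ideal.mem_span_singleton_self f
    obtain ⟨c, hc⟩ := Ideal.mem_span_singleton'.mp h3
    rw [LinearMap.smul_apply, LinearMap.id_apply, ← hc, mul_smul, hy, smul_zero]
  have h3 := smul_mem_span x hx k (by simp) z e he hz d 1 (by rw [hf, hd]) (by rw [one_mul])
    (LinearMap.ker (f • (LinearMap.id : M →ₗ[R] M))).mkQ (Submodule.mkQ_surjective _) h2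
  simp_rw [one_smul] at h3
  refine exists_pad _ (eq_top_iff.mpr fun y _ => h3 y) k ?_
  rw [card_compl_range e he]
  simp only [Fintype.card_fin]
  omega

end Local

end K360.FittPrincipal
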