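import Groth.Agent.Fitt.K360.Minors

set_option autoImplicit false

/-!
# Fitting ideals of a direct sum
-/

namespace K360.FittProd

open K360.FittBasic K360.FittMinors
open Groth.Agent.Flat2C.FittingZero (rel mem_rel)

universe u v w

section

variable {R : Type*} [CommRing R] {M : Type*} [AddCommGroup M] [Module R M]
  {N : Type*} [AddCommGroup N] [Module R N]
variable {ι κ : Type*} [Fintype ι] [DecidableEq ι] [Fintype κ] [DecidableEq κ]

theorem rel_sum_left (x : ι → M) (y : κ → N) (c : ι ⊕ κ → R)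
    (hc : ∑ i, c i • Sum.elim (fun i => ((x i, 0) : M × N)) (fun j => (0, y j)) i = 0) :
    ∑ i, c (Sum.inl i) • x i = 0 ∧ ∑ j, c (Sum.inr j) • y j = 0 := by
  rw [Fintype.sum_sum_type] at hc
  simp only [Sum.elim_inl, Sum.elim_inr, Prod.smul_mk, smul_zero] at hc
  have h1 := congrArg Prod.fst hc
  have h2 := congrArg Prod.snd hc
  simp only [Prod.fst_add, Prod.fst_sum, Finset.sum_const_zero, add_zero, Prod.fst_zero] at h1
  simp only [Prod.snd_add, Prod.snd_sum, Finset.sum_const_zero, zero_add, Prod.snd_zero] at h2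
  exact ⟨h1, h2⟩

theorem rel_sum_right (x : ι → M) (y : κ → N) (c : ι ⊕ κ → R)
    (h1 : ∑ i, c (Sum.inl i) • x i = 0) (h2 : ∑ j, c (Sum.inr j) • y j = 0) :
    ∑ i, c i • Sum.elim (fun i => ((x i, 0) : M × N)) (fun j => (0, y j)) i = 0 := by
  rw [Fintype.sum_sum_type]
  simp only [Sum.elim_inl, Sum.elim_inr, Prod.smul_mk, smul_zero]
  refine Prod.ext ?_ ?_
  · simp only [Prod.fst_add, Prod.fst_sum, Finset.sum_const_zero, add_zero, Prod.fst_zero, h1]
  · simp only [Prod.snd_add, Prod.snd_sum, Finset.sum_const_zero, zero_add, Prod.snd_zero, h2]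

/-- Each determinant of a matrix with rows of pure type is, up to sign, a product, or zero. -/
theorem det_pure (u : Matrix (ι ⊕ κ) (ι ⊕ κ) R)
    (hu : ∀ i, (∀ j, u i (Sum.inr j) = 0) ∨ (∀ j, u i (Sum.inl j) = 0)) :
    u.det = 0 ∨ ∃ σ : Equiv.Perm (ι ⊕ κ), (∀ i j, u (σ (Sum.inl i)) (Sum.inr j) = 0) ∧
      (∀ i j, u (σ (Sum.inr i)) (Sum.inl j) = 0) := by
  by_cases h : ∃ σ : Equiv.Perm (ι ⊕ κ), ∏ i, u (σ i) i ≠ 0
  · obtain ⟨σ, hσ⟩ := h
    right
    have h1 : ∀ i, u (σ i) i ≠ 0 := fun i h0 => hσ (Finset.prod_eq_zero (Finset.mem_univ i) h0)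
    refine ⟨σ, fun i j => ?_, fun i j => ?_⟩
    · rcases hu (σ (Sum.inl i)) with h2 | h2
      · exact h2 j
      · exact absurd (h2 i) (h1 (Sum.inl i))
    · rcases hu (σ (Sum.inr i)) with h2 | h2
      · exact absurd (h2 i) (h1 (Sum.inr i))
      · exact h2 j
  · left
    push Not at h
    rw [Matrix.det_apply]
    refine Finset.sum_eq_zero fun σ _ => ?_
    rw [h σ, smul_zero]

theorem fit_sum_le (x : ι → M) (y : κ → N) (l : ℕ) :
    fit (R := R) (Sum.elim (fun i => ((x i, 0) : M × N)) (fun j => (0, y j))) l ≤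
      ∑ k ∈ Finset.range (l + 1), fit (R := R) x k * fit (R := R) y (l - k) := by
  classical
  set w : ι ⊕ κ → M × N := Sum.elim (fun i => ((x i, 0) : M × N)) (fun j => (0, y j)) with hw
  -- pure rows
  let P : Set ((ι ⊕ κ) → R) := {c | (∀ j, c (Sum.inr j) = 0) ∨ (∀ j, c (Sum.inl j) = 0)}
  have hdecomp : ∀ c : (ι ⊕ κ) → R, c = Sum.elim (fun i => c (Sum.inl i)) (fun _ => 0) +
      Sum.elim (fun _ => 0) (fun j => c (Sum.inr j)) := by
    intro c; funext i; rcases i with i | i <;> simp
  have hs : Submodule.span R (P ∩ (rel (R := R) w : Set _)) = rel (R := R) w := by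
    apply le_antisymm
    · rw [Submodule.span_le]; exact Set.inter_subset_right
    · intro c hc
      rw [mem_rel] at hc
      have h1 := rel_sum_left x y c hc
      rw [hdecomp c]
      refine Submodule.add_mem _ (Submodule.subset_span ⟨Or.inl fun j => rfl, ?_⟩)
        (Submodule.subset_span ⟨Or.inr fun j => rfl, ?_⟩)
      · rw [SetLike.mem_coe, mem_rel]
        refine rel_sum_right x y _ ?_ ?_
        · simpa using h1.1
        · simp
      · rw [SetLike.mem_coe, mem_rel]
        refine rel_sum_right x y _ ?_ ?_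
        · simp
        · simpa using h1.2
  have hs' : Submodule.span R P = ⊤ := by
    rw [eq_top_iff]
    intro c _
    rw [hdecomp c]
    exact Submodule.add_mem _ (Submodule.subset_span (Or.inl fun j => rfl))
      (Submodule.subset_span (Or.inr fun j => rfl))
  rw [fit_eq_span w _ _ hs hs', Ideal.span_le]
  rintro _ ⟨u, t, ht, hu, hu', rfl⟩
  have hpure : ∀ i, (∀ j, u i (Sum.inr j) = 0) ∨ (∀ j, u i (Sum.inl j) = 0) := by
    intro i
    by_cases hi : i ∈ t
    · exact hu' i hi
    · exact (hu i hi).1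
  rcases det_pure u hpure with h0 | ⟨σ, h1, h2⟩
  · rw [h0]; exact Submodule.zero_mem _
  refine det_mem_of_submatrix u σ (Equiv.refl _) _ ?_
  have hblock : u.submatrix σ (Equiv.refl _) = Matrix.fromBlocks
      (Matrix.of fun i j => u (σ (Sum.inl i)) (Sum.inl j)) 0 0
      (Matrix.of fun i j => u (σ (Sum.inr i)) (Sum.inr j)) := by
    ext i j
    rcases i with i | i <;> rcases j with j | j
    · rfl
    · exact h1 i j
    · exact h2 i j
    · rfl
  rw [hblock, Matrix.det_fromBlocks_zero₂₁]
  let t1 : Finset ι := Finset.univ.filter fun i => σ (Sum.inl i) ∈ t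
  let t2 : Finset κ := Finset.univ.filter fun i => σ (Sum.inr i) ∈ t
  have hcard : t1.card + t2.card ≤ l := by
    refine le_trans ?_ ht
    rw [← Finset.card_disjSum]
    refine Finset.card_le_card_of_injOn σ ?_ σ.injective.injOn
    intro i hi
    rcases i with i | i
    · simpa [t1] using hi
    · simpa [t2] using hi
  have hA : (Matrix.of fun i j => u (σ (Sum.inl i)) (Sum.inl j)).det ∈ fit (R := R) x t1.card := by
    refine Ideal.subset_span ⟨_, t1, le_rfl, fun i hi => ?_, rfl⟩
    have hi' : σ (Sum.inl i) ∉ t := by simpa [t1] using hi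
    have h3 := (hu _ hi').2
    rw [SetLike.mem_coe, mem_rel] at h3
    exact (rel_sum_left x y _ h3).1
  have hB : (Matrix.of fun i j => u (σ (Sum.inr i)) (Sum.inr j)).det ∈
      fit (R := R) y (l - t1.card) := by
    refine Ideal.subset_span ⟨_, t2, by omega, fun i hi => ?_, rfl⟩
    have hi' : σ (Sum.inr i) ∉ t := by simpa [t2] using hi
    have h3 := (hu _ hi').2
    rw [SetLike.mem_coe, mem_rel] at h3
    exact (rel_sum_left x y _ h3).2
  have hmem : t1.card ∈ Finset.range (l + 1) := by rw [Finset.mem_range]; omega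
  have hle : fit (R := R) x t1.card * fit (R := R) y (l - t1.card) ≤
      ∑ k ∈ Finset.range (l + 1), fit (R := R) x k * fit (R := R) y (l - k) := by
    rw [Ideal.sum_eq_sup]
    exact Finset.le_sup (f := fun k => fit (R := R) x k * fit (R := R) y (l - k)) hmem
  exact hle (Ideal.mul_mem_mul hA hB)

theorem fit_mul_le (x : ι → M) (y : κ → N) (l k : ℕ) (hk : k ≤ l) :
    fit (R := R) x k * fit (R := R) y (l - k) ≤
      fit (R := R) (Sum.elim (fun i => ((x i, 0) : M × N)) (fun j => (0, y j))) l := by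
  classical
  rw [fit, fit, Ideal.span_mul_span, Ideal.span_le]
  rintro _ ⟨_, ⟨a, t, ht, ha, rfl⟩, _, ⟨b, t', ht', hb, rfl⟩, rfl⟩
  refine Ideal.subset_span ⟨Matrix.fromBlocks a 0 0 b, t.disjSum t', ?_, fun i hi => ?_, ?_⟩
  · rw [Finset.card_disjSum]; omega
  · refine rel_sum_right x y _ ?_ ?_
    · rcases i with i | i
      · simp only [Matrix.fromBlocks_apply₁₁]
        exact ha i fun h => hi (Finset.inl_mem_disjSum.mpr h)
      · simp
    · rcases i with i | i
      · simp
      · simp only [Matrix.fromBlocks_apply₂₂]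
        exact hb i fun h => hi (Finset.inr_mem_disjSum.mpr h)
  · rw [Matrix.det_fromBlocks_zero₂₁]

end

section

variable {R : Type u} [CommRing R] {M : Type v} [AddCommGroup M] [Module R M]
  {N : Type w} [AddCommGroup N] [Module R N] [Module.Finite R M] [Module.Finite R N]

theorem ideal_prod (l : ℕ) : Fitt.ideal R (M × N) l =
    ∑ k ∈ Finset.range (l + 1), Fitt.ideal R M k * Fitt.ideal R N (l - k) := by
  obtain ⟨n, x, hx⟩ := Module.Finite.exists_fin (R := R) (M := M)
  obtain ⟨m, y, hy⟩ := Module.Finite.exists_fin (R := R) (M := N)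
  have hw : Submodule.span R (Set.range
      (Sum.elim (fun i => ((x i, 0) : M × N)) (fun j => (0, y j)))) = ⊤ := by
    rw [eq_top_iff]
    rintro ⟨a, b⟩ -
    rw [Set.Sum.elim_range, Submodule.span_union]
    have ha : a ∈ Submodule.span R (Set.range x) := by rw [hx]; trivial
    have hb : b ∈ Submodule.span R (Set.range y) := by rw [hy]; trivial
    have h1 : (a, (0 : N)) ∈ Submodule.span R (Set.range fun i => ((x i, 0) : M × N)) := by
      have := Submodule.mem_map_of_mem (f := LinearMap.inl R M N) ha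
      rw [Submodule.map_span, ← Set.range_comp] at this
      exact this
    have h2 : ((0 : M), b) ∈ Submodule.span R (Set.range fun i => ((0, y i) : M × N)) := by
      have := Submodule.mem_map_of_mem (f := LinearMap.inr R M N) hb
      rw [Submodule.map_span, ← Set.range_comp] at this
      exact this
    have h3 : (a, b) = (a, (0 : N)) + ((0 : M), b) := by simp
    rw [h3]
    exact Submodule.add_mem_sup h1 h2
  rw [ideal_eq_fit _ hw]
  simp_rw [ideal_eq_fit x hx, ideal_eq_fit y hy]
  refine le_antisymm (fit_sum_le x y l) ?_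
  rw [Ideal.sum_eq_sup, Finset.sup_le_iff]
  intro k hk
  rw [Finset.mem_range] at hk
  exact fit_mul_le x y l k (by omega)

end

end K360.FittProd
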