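import Groth.Agent.Fitt.K360.Principal
import Groth.Agent.Fitt.K360.Prod
import Mathlib.RingTheory.LocalProperties.FinitePresentation
import Mathlib.RingTheory.Flat.EquationalCriterion
import Mathlib.RingTheory.Flat.Localization
import Mathlib.RingTheory.Flat.TorsionFree
import Mathlib.CategoryTheory.Abelian.Projective.Dimension
import Mathlib.Algebra.Homology.ShortComplex.ModuleCat
import Mathlib.Algebra.Category.ModuleCat.Projective
import Mathlib.Algebra.Category.ModuleCat.Ext.HasExt

set_option autoImplicit false

/-!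
# Finitely presented modules with principal Fitting ideal: splitting and projective dimension (S6897)
-/

namespace K360.FittProjDim

open TensorProduct K360.FittBasic K360.FittMinors K360.FittFiber K360.FittLocFree K360.FittCramer
  K360.FittPrincipal K360.FittProd
open Groth.Agent.Flat2C.FittingZero (rel mem_rel)
open CategoryTheory

universe u v

section LocFree

variable {R : Type u} [CommRing R] {M : Type v} [AddCommGroup M] [Module R M]

theorem projective_of_isLocFree [Module.Finite R M] {r : ℕ} (h : IsLocFree R M r) :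
    Module.FinitePresentation R M ∧ Module.Projective R M := by
  let s : Set R := {f | Module.Free (Localization.Away f) (LocalizedModule (Submonoid.powers f) M)}
  have hs : Ideal.span s = ⊤ := by
    by_contra hne
    obtain ⟨m, hm, hle⟩ := Ideal.exists_le_maximal _ hne
    have := hm.isPrime
    obtain ⟨f, hf, hfree, -⟩ := h m
    exact hf (hle (Ideal.subset_span hfree))
  have h1 : ∀ g : s, Module.Finite (Localization.Away g.1) (LocalizedModule.Away g.1 M) := fun g =>
    inferInstanceAs (Module.Finite (Localization (Submonoid.powers g.1))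
      (LocalizedModule (Submonoid.powers g.1) M))
  have h2 : ∀ g : s, Module.Free (Localization.Away g.1) (LocalizedModule.Away g.1 M) := fun g => g.2
  have h3 : Module.FinitePresentation R M := Module.FinitePresentation.of_localizationSpan s hs
    fun g => Module.finitePresentation_of_projective _ _
  have h4 : Module.Flat R M := Module.flat_of_localized_span R M s hs fun g => by
    have : Module.Flat (Localization.Away g.1) (LocalizedModule.Away g.1 M) := inferInstance
    exact Module.Flat.trans R (Localization.Away g.1) (LocalizedModule.Away g.1 M)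
  exact ⟨h3, Module.Flat.projective_of_finitePresentation⟩

end LocFree

section Relations

variable {R : Type u} [CommRing R] {M : Type v} [AddCommGroup M] [Module R M]

/-- A generating set of a principal ideal generated by a nonzerodivisor contains, near every prime, a
generator. -/
theorem exists_local_generator {s : Set R} {f : R} (hf0 : f ∈ nonZeroDivisors R)
    (hs : Ideal.span s = Ideal.span {f}) (p : Ideal R) [p.IsPrime] :
    ∃ d ∈ s, ∃ g, g ∉ p ∧ d = g * f := by
  by_contra hcon
  push Not at hcon
  have hle : Ideal.span s ≤ p * Ideal.span {f} := by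
    rw [Ideal.span_le]
    intro d hd
    have h2 : d ∈ Ideal.span {f} := hs ▸ Ideal.subset_span hd
    obtain ⟨g, hg⟩ := Ideal.mem_span_singleton'.mp h2
    by_cases hgp : g ∈ p
    · rw [← hg]; exact Ideal.mul_mem_mul hgp (Ideal.mem_span_singleton_self f)
    · exact absurd hg.symm (hcon d hd g hgp)
  have h3 : f ∈ p * Ideal.span {f} := hle (hs ▸ Ideal.mem_span_singleton_self f)
  rw [mul_comm, Ideal.mem_span_singleton_mul] at h3
  obtain ⟨g, hg, hgf⟩ := h3
  have h4 : (g - 1) * f = 0 := by rw [sub_mul, one_mul, mul_comm g f, hgf, sub_self]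
  have h5 := (mul_right_mem_nonZeroDivisors_eq_zero_iff hf0).mp h4
  have h6 : g = 1 := by rwa [sub_eq_zero] at h5
  exact ‹p.IsPrime›.ne_top (p.eq_top_iff_one.mpr (h6 ▸ hg))

/-- The relation module of a module with zeroth Fitting ideal generated by a nonzerodivisor is locally
free. -/
theorem isLocFree_rel {n : ℕ} (x : Fin n → M) (hx : Submodule.span R (Set.range x) = ⊤) {f : R}
    (hf0 : f ∈ nonZeroDivisors R) (hf : Fitt.ideal R M 0 = Ideal.span {f}) :
    IsLocFree R (rel (R := R) x) n := by
  classical
  intro p hp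
  have hfit := hf
  rw [ideal_eq_fit x hx, fit] at hfit
  obtain ⟨_, ⟨a, t, ht, ha, rfl⟩, g, hgp, hd⟩ := exists_local_generator hf0 hfit p
  rw [Nat.le_zero, Finset.card_eq_zero] at ht
  subst ht
  have ha' : ∀ i, ∑ j, a i j • x j = 0 := fun i => ha i (by simp)
  have := nontrivial_away hgp
  refine ⟨g, hgp, ?_⟩
  let y : Fin n → rel (R := R) x := fun i => ⟨a i, (mem_rel _ _).mpr (ha' i)⟩
  have h4 := free_away y g (fun c => ?_) (fun c hc i => ?_)
  · simpa using h4
  · -- Cramer
    refine ⟨1, ?_⟩
    rw [pow_one]
    have h1 : ∀ i, ∃ b : R, (a.updateRow i c.1).det = b * f := by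
      intro i
      have h2 : (a.updateRow i c.1).det ∈ Fitt.ideal R M 0 := by
        rw [ideal_eq_fit x hx]
        refine Ideal.subset_span ⟨_, ∅, le_rfl, fun j _ => ?_, rfl⟩
        by_cases hji : j = i
        · subst hji
          rw [Matrix.updateRow_self]
          exact (mem_rel _ _).mp c.2
        · rw [Matrix.updateRow_ne hji]
          exact ha' j
      rw [hf] at h2
      exact (Ideal.mem_span_singleton'.mp h2).imp fun b hb => hb.symm
    choose b hb using h1
    have h2 : g • c = ∑ i, b i • y i := by
      apply Subtype.ext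
      funext j
      have h3 : Matrix.vecMul (Matrix.vecMul c.1 a.adjugate) a j = a.det * c.1 j := by
        rw [Matrix.vecMul_vecMul, Matrix.adjugate_mul, Matrix.vecMul_smul, Matrix.vecMul_one]
        rfl
      have h4 : ∀ i, Matrix.vecMul c.1 a.adjugate i = b i * f := by
        intro i
        rw [← hb i, ← Matrix.cramer_transpose_apply, Matrix.cramer_eq_adjugate_mulVec,
          ← Matrix.adjugate_transpose, Matrix.mulVec_transpose]
      have h5 : (∑ i, b i * f * a i j) = g * f * c.1 j := by
        rw [← hd, ← h3]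
        simp only [Matrix.vecMul, dotProduct] at h4 ⊢
        exact Finset.sum_congr rfl fun i _ => by rw [h4 i]
      have h6 : f * ((∑ i, b i * a i j) - g * c.1 j) = 0 := by
        rw [mul_sub, Finset.mul_sum, sub_eq_zero]
        calc ∑ i, f * (b i * a i j) = ∑ i, b i * f * a i j :=
              Finset.sum_congr rfl fun i _ => by ring
          _ = f * (g * c.1 j) := by rw [h5]; ring
      have h7 := (mul_left_mem_nonZeroDivisors_eq_zero_iff hf0).mp h6
      rw [sub_eq_zero] at h7
      simp only [SetLike.val_smul, Pi.smul_apply, smul_eq_mul, AddSubmonoidClass.coe_finsetSum,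
        Finset.sum_apply, y]
      exact h7.symm
    rw [h2]
    exact Submodule.sum_mem _ fun i _ => Submodule.smul_mem _ _ (Submodule.subset_span ⟨i, rfl⟩)
  · refine ⟨1, ?_⟩
    rw [pow_one]
    have h1 : Matrix.vecMul c a = 0 := by
      funext j
      have := congrFun (congrArg Subtype.val hc) j
      simpa [y, Matrix.vecMul, dotProduct] using this
    have h2 : a.det * c i = 0 := by
      have h3 : Matrix.vecMul (Matrix.vecMul c a) a.adjugate i = a.det * c i := by
        rw [Matrix.vecMul_vecMul, Matrix.mul_adjugate, Matrix.vecMul_smul, Matrix.vecMul_one]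
        rfl
      rw [← h3, h1, Matrix.zero_vecMul]
      rfl
    rw [hd, mul_right_comm] at h2
    exact (mul_right_mem_nonZeroDivisors_eq_zero_iff hf0).mp h2

end Relations

section Main

variable {R : Type u} [CommRing R]

/-- projective dimension at most one from the zeroth Fitting ideal -/
theorem projDim_of_ideal_zero (M : Type u) [AddCommGroup M] [Module R M]
    [Module.FinitePresentation R M] {f : R} (hf0 : f ∈ nonZeroDivisors R)
    (hf : Fitt.ideal R M 0 = Ideal.span {f}) : HasProjectiveDimensionLT (ModuleCat.of R M) 2 := by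
  obtain ⟨n, x, hx⟩ := Module.Finite.exists_fin (R := R) (M := M)
  let π : (Fin n → R) →ₗ[R] M := Fintype.linearCombination R x
  have hπ : Function.Surjective π := by
    rw [← LinearMap.range_eq_top, Fintype.range_linearCombination, hx]
  have h1 : IsLocFree R (LinearMap.ker π) n := isLocFree_rel x hx hf0 hf
  have h2 : Module.Finite R (LinearMap.ker π) :=
    Module.Finite.iff_fg.mpr (Module.FinitePresentation.fg_ker π hπ)
  have h3 := (projective_of_isLocFree h1).2
  have hS := LinearMap.shortExact_shortComplexKer hπ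
  have h4 : Projective (ModuleCat.of R (LinearMap.ker π)) :=
    (IsProjective.iff_projective _).mp h3
  have h5 : Projective (ModuleCat.of R (Fin n → R)) :=
    (IsProjective.iff_projective _).mp inferInstance
  have h6 : HasProjectiveDimensionLT (ModuleCat.of R (LinearMap.ker π)) 1 := inferInstance
  have h7 : HasProjectiveDimensionLT (ModuleCat.of R (Fin n → R)) 2 := inferInstance
  exact hS.hasProjectiveDimensionLT_X₃ 1 h6 h7

variable (M : Type u) [AddCommGroup M] [Module R M]

/-- splitting off a projective quotient -/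
theorem exists_splitting (K : Submodule R M) [Module.Projective R (M ⧸ K)] :
    Nonempty (M ≃ₗ[R] (M ⧸ K) × K) := by
  obtain ⟨s, hs⟩ := Module.projective_lifting_property K.mkQ (LinearMap.id) (Submodule.mkQ_surjective K)
  have hs' : ∀ q, K.mkQ (s q) = q := fun q => LinearMap.congr_fun hs q
  let r : M →ₗ[R] K := LinearMap.codRestrict K (LinearMap.id - s ∘ₗ K.mkQ) (fun y => by
    rw [← Submodule.Quotient.mk_eq_zero, ← Submodule.mkQ_apply]
    simp only [LinearMap.sub_apply, LinearMap.id_apply, LinearMap.comp_apply, map_sub, hs', sub_self])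
  refine ⟨LinearEquiv.ofLinearMap (K.mkQ.prod r) (s.coprod K.subtype) ?_ ?_⟩
  · refine LinearMap.ext fun q => Prod.ext ?_ (Subtype.ext ?_)
    · have h1 : K.mkQ (q.2 : M) = 0 := by
        rw [Submodule.mkQ_apply, Submodule.Quotient.mk_eq_zero]; exact q.2.2
      change K.mkQ (s q.1 + (q.2 : M)) = q.1
      rw [map_add, hs', h1, add_zero]
    · have h1 : K.mkQ (q.2 : M) = 0 := by
        rw [Submodule.mkQ_apply, Submodule.Quotient.mk_eq_zero]; exact q.2.2
      change (s q.1 + (q.2 : M)) - s (K.mkQ (s q.1 + (q.2 : M))) = (q.2 : M)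
      rw [map_add, hs', h1, add_zero, add_sub_cancel_left]
  · refine LinearMap.ext fun y => ?_
    change s (K.mkQ y) + (y - s (K.mkQ y)) = y
    rw [add_sub_cancel]

theorem main [Module.FinitePresentation R M] (k : ℕ) (f : R) (hf0 : f ∈ nonZeroDivisors R)
    (hf : Fitt.ideal R M k = Ideal.span {f}) (hk : k = 0 ∨ Fitt.ideal R M (k - 1) = ⊥) :
    HasProjectiveDimensionLT (ModuleCat.of R M) 2 ∧
    (∀ x : M, (∃ n : ℕ, f ^ n • x = 0) ↔ f • x = 0) ∧
    HasProjectiveDimensionLT (ModuleCat.of R ↥(LinearMap.ker (f • (LinearMap.id : M →ₗ[R] M)))) 2 ∧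
    IsLocFree R (M ⧸ LinearMap.ker (f • (LinearMap.id : M →ₗ[R] M))) k ∧
    Nonempty (M ≃ₗ[R] (M ⧸ LinearMap.ker (f • (LinearMap.id : M →ₗ[R] M))) ×
      ↥(LinearMap.ker (f • (LinearMap.id : M →ₗ[R] M)))) := by
  have hmem : ∀ y : M, y ∈ LinearMap.ker (f • (LinearMap.id : M →ₗ[R] M)) ↔ f • y = 0 := fun y => by
    rw [LinearMap.mem_ker, LinearMap.smul_apply, LinearMap.id_apply]
  generalize LinearMap.ker (f • (LinearMap.id : M →ₗ[R] M)) = K at hmem ⊢
  have h4 : IsLocFree R (M ⧸ K) k := isLocFree_quotient hf0 hf hk K.mkQ (Submodule.mkQ_surjective _)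
    (fun y hy => by rw [Submodule.mkQ_apply, Submodule.Quotient.mk_eq_zero, hmem]; exact hy)
    (fun y hy => by
      rw [Submodule.mkQ_apply, Submodule.Quotient.mk_eq_zero, hmem] at hy
      exact ⟨f, hf0, hy⟩)
  obtain ⟨hfpN, hprojN⟩ := projective_of_isLocFree h4
  obtain ⟨e⟩ := exists_splitting M K
  have hfpK : Module.FinitePresentation R K := by
    refine Module.finitePresentation_of_surjective (LinearMap.snd R (M ⧸ K) K ∘ₗ e.toLinearMap)
      (fun y => ⟨e.symm (0, y), by simp⟩) ?_
    have h1 : LinearMap.ker (LinearMap.snd R (M ⧸ K) K ∘ₗ e.toLinearMap) =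
        Submodule.map (e.symm.toLinearMap ∘ₗ LinearMap.inl R (M ⧸ K) K) ⊤ := by
      ext y
      simp only [LinearMap.mem_ker, LinearMap.comp_apply, LinearMap.snd_apply, Submodule.mem_map,
        Submodule.mem_top, true_and, LinearMap.inl_apply, LinearEquiv.coe_coe]
      constructor
      · intro h
        exact ⟨(e y).1, by rw [LinearEquiv.symm_apply_eq]; exact Prod.ext rfl h.symm⟩
      · rintro ⟨q, rfl⟩
        simp
    rw [h1]
    exact Module.Finite.fg_top.map _
  have hfK : Fitt.ideal R K 0 = Ideal.span {f} := by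
    rw [← hf, ideal_congr e, ideal_prod, Finset.sum_range_succ, Finset.sum_eq_zero, zero_add,
      (fitt_of_isLocFree h4).2 k le_rfl, Nat.sub_self, Ideal.top_mul]
    intro i hi
    rw [(fitt_of_isLocFree h4).1 i (Finset.mem_range.mp hi), Ideal.bot_mul]
    rfl
  have h3 := projDim_of_ideal_zero K hf0 hfK
  have hPN : Projective (ModuleCat.of R (M ⧸ K)) := (IsProjective.iff_projective _).mp hprojN
  have h5 : HasProjectiveDimensionLT (ModuleCat.of R (M ⧸ K)) 2 := inferInstance
  refine ⟨?_, fun x => ⟨?_, fun h => ⟨1, by rwa [pow_one]⟩⟩, h3, h4, ⟨e⟩⟩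
  · have hS : (ModuleCat.shortComplexOfCompEqZero K.subtype K.mkQ (by
        ext y; simp)).ShortExact := ModuleCat.shortComplex_shortExact _
        (by
          intro y
          change K.mkQ y = 0 ↔ y ∈ Set.range K.subtype
          rw [Submodule.mkQ_apply, Submodule.Quotient.mk_eq_zero]
          simp)
        (Submodule.injective_subtype K) (Submodule.mkQ_surjective K)
    exact hS.hasProjectiveDimensionLT_X₂ 2 h3 h5
  · rintro ⟨n, hn⟩
    rw [← hmem, ← Submodule.Quotient.mk_eq_zero]
    have h6 : f ^ n • (Submodule.Quotient.mk x : M ⧸ K) = 0 := by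
      rw [← Submodule.Quotient.mk_smul, hn, Submodule.Quotient.mk_zero]
    have h7 : IsSMulRegular (M ⧸ K) (f ^ n) :=
      Module.Flat.isSMulRegular_of_nonZeroDivisors (pow_mem hf0 n)
    exact h7 (by beta_reduce; rw [h6, smul_zero])

end Main

end K360.FittProjDim
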