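import Groth.Agent.Fitt.K360.Principal
import Groth.Agent.Flat2C.AffineAlg
import Groth.Prelude.Def_FlatCA

set_option autoImplicit false

/-!
# Fitting ideals and strict transforms along affine blow-up algebras
-/

namespace K360.FittStrict

open TensorProduct K360.FittBasic K360.FittMinors K360.FittFiber K360.FittLocFree K360.FittCramer
  K360.FittPrincipal

universe u

theorem mem_powTorsion {S : Type u} [CommRing S] (a : S) {M : Type u} [AddCommGroup M] [Module S M]
    (x : M) : x ∈ FlatCA.powTorsion S a M ↔ ∃ n : ℕ, a ^ n • x = 0 := by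
  rw [FlatCA.powTorsion, Submodule.mem_iSup_of_directed]
  · simp only [Submodule.mem_torsionBy_iff]
  · intro i j
    refine ⟨i + j, fun x hx => ?_, fun x hx => ?_⟩
    · rw [Submodule.mem_torsionBy_iff] at hx ⊢
      rw [pow_add, mul_comm, mul_smul, hx, smul_zero]
    · rw [Submodule.mem_torsionBy_iff] at hx ⊢
      rw [pow_add, mul_smul, hx, smul_zero]

variable {R : Type u} [CommRing R]

section Blow

variable {I : Ideal R} {a : R} {R₁ : Type u} [CommRing R₁] [Algebra R R₁]

theorem nzd_of_equiv (e : R₁ ≃ₐ[R] ↥(BlowUp.affineAlgebra R I a)) :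
    algebraMap R R₁ a ∈ nonZeroDivisors R₁ := by
  have h := Groth.Agent.Flat2C.AffineAlg.algebraMap_mem_nonZeroDivisors I a
  rw [mem_nonZeroDivisors_iff_right] at h ⊢
  intro x hx
  have h1 := h (e x) (by
    have := congrArg e hx
    rwa [map_mul, map_zero, e.commutes] at this)
  exact (map_eq_zero_iff e e.injective).mp h1

theorem map_eq_span_of_equiv (ha : a ∈ I) (e : R₁ ≃ₐ[R] ↥(BlowUp.affineAlgebra R I a)) :
    I.map (algebraMap R R₁) = Ideal.span {algebraMap R R₁ a} := by
  apply le_antisymm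
  · rw [Ideal.map_le_iff_le_comap]
    intro x hx
    rw [Ideal.mem_comap, Ideal.mem_span_singleton']
    refine ⟨e.symm (Groth.Agent.Flat2C.AffineAlg.frac I a x hx), e.injective ?_⟩
    rw [map_mul, e.apply_symm_apply, e.commutes, e.commutes]
    exact Groth.Agent.Flat2C.AffineAlg.frac_mul I a x hx
  · rw [Ideal.span_singleton_le_iff_mem]
    exact Ideal.mem_map_of_mem _ ha

end Blow

section Strict

variable (M : Type u) [AddCommGroup M] [Module R M] [Module.Finite R M]

theorem ideal_strictTransform (k : ℕ) (a : R) (ha : a ∈ Fitt.ideal R M k)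
    (R₁ : Type u) [CommRing R₁] [Algebra R R₁]
    (e : R₁ ≃ₐ[R] ↥(BlowUp.affineAlgebra R (Fitt.ideal R M k) a)) :
    Fitt.ideal R₁ ((R₁ ⊗[R] M) ⧸ FlatCA.powTorsion R₁ (algebraMap R R₁ a) (R₁ ⊗[R] M)) k = ⊤ := by
  refine ideal_quotient_eq_top (nzd_of_equiv e) ?_
    (FlatCA.powTorsion R₁ (algebraMap R R₁ a) (R₁ ⊗[R] M)).mkQ (Submodule.mkQ_surjective _)
    fun y hy => ?_
  · rw [ideal_baseChange, map_eq_span_of_equiv ha e]
  · rw [Submodule.mkQ_apply, Submodule.Quotient.mk_eq_zero, mem_powTorsion]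
    exact ⟨1, by rw [pow_one]; exact hy⟩

/-- If an element is killed locally on `D(a)`, it is killed by a power of `a`. -/
theorem exists_pow_mul_eq_zero {d a : R}
    (h : ∀ (p : Ideal R) [p.IsPrime], a ∉ p → ∃ s, s ∉ p ∧ s * d = 0) : ∃ n : ℕ, a ^ n * d = 0 := by
  by_contra hcon
  have h1 : a ∉ ((⊥ : Ideal R).colon {d}).radical := by
    rintro ⟨n, hn⟩
    rw [Submodule.mem_colon_singleton] at hn
    exact hcon ⟨n, by simpa using hn⟩
  rw [Ideal.radical_eq_sInf, Ideal.mem_sInf] at h1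
  push Not at h1
  obtain ⟨p, ⟨hle, hp⟩, hap⟩ := h1
  obtain ⟨s, hs, hsd⟩ := h p hap
  refine hs (hle ?_)
  rw [Submodule.mem_colon_singleton]
  simpa using hsd

theorem map_eq_bot_of_torsion {R₁ : Type u} [CommRing R₁] [Algebra R R₁] {a : R}
    (ha : algebraMap R R₁ a ∈ nonZeroDivisors R₁) {J : Ideal R}
    (hJ : ∀ d ∈ J, ∃ n : ℕ, a ^ n * d = 0) : J.map (algebraMap R R₁) = ⊥ := by
  rw [← le_bot_iff, Ideal.map_le_iff_le_comap]
  intro d hd
  rw [Ideal.mem_comap, Submodule.mem_bot]
  obtain ⟨n, hn⟩ := hJ d hd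
  have := congrArg (algebraMap R R₁) hn
  rw [map_mul, map_pow, map_zero] at this
  exact (mul_left_mem_nonZeroDivisors_eq_zero_iff (pow_mem ha n)).mp this

theorem strictTransform_isLocFree (k : ℕ)
    (hfree : ∀ (p : Ideal R) [p.IsPrime], ¬ Fitt.ideal R M k ≤ p →
      Module.Free (Localization.AtPrime p) (LocalizedModule p.primeCompl M) ∧
        Module.finrank (Localization.AtPrime p) (LocalizedModule p.primeCompl M) = k)
    (a : R) (ha : a ∈ Fitt.ideal R M k) (R₁ : Type u) [CommRing R₁] [Algebra R R₁]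
    (e : R₁ ≃ₐ[R] ↥(BlowUp.affineAlgebra R (Fitt.ideal R M k) a)) :
    IsLocFree R₁ ((R₁ ⊗[R] M) ⧸ FlatCA.powTorsion R₁ (algebraMap R R₁ a) (R₁ ⊗[R] M)) k := by
  have hnzd := nzd_of_equiv e
  refine isLocFree_quotient hnzd (by rw [ideal_baseChange, map_eq_span_of_equiv ha e]) ?_
    (FlatCA.powTorsion R₁ (algebraMap R R₁ a) (R₁ ⊗[R] M)).mkQ (Submodule.mkQ_surjective _)
    (fun y hy => ?_) (fun y hy => ?_)
  · by_cases hk : k = 0
    · exact Or.inl hk
    right
    rw [ideal_baseChange]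
    refine map_eq_bot_of_torsion hnzd fun d hd => exists_pow_mul_eq_zero fun p hp hap => ?_
    obtain ⟨h1, h2⟩ := hfree p fun hle => hap (hle ha)
    have h3 := (fitt_of_free (A := Localization.AtPrime p)
      (N := LocalizedModule p.primeCompl M) (k - 1)).1 (by omega)
    have h4 := ideal_localizedModule (M := M) p.primeCompl (k - 1)
    have h5 : algebraMap R (Localization.AtPrime p) d = 0 := by
      have := Ideal.mem_map_of_mem (algebraMap R (Localization.AtPrime p)) hd
      have h6 := h4.symm.trans h3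
      change _ = (⊥ : Ideal (Localization.AtPrime p)) at h6
      rwa [h6, Submodule.mem_bot] at this
    obtain ⟨s, hs⟩ := (IsLocalization.map_eq_zero_iff p.primeCompl
      (Localization.AtPrime p) d).mp h5
    exact ⟨s, s.2, hs⟩
  · rw [Submodule.mkQ_apply, Submodule.Quotient.mk_eq_zero, mem_powTorsion]
    exact ⟨1, by rw [pow_one]; exact hy⟩
  · rw [Submodule.mkQ_apply, Submodule.Quotient.mk_eq_zero, mem_powTorsion] at hy
    obtain ⟨n, hn⟩ := hy
    exact ⟨_, pow_mem hnzd n, hn⟩

end Strict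

end K360.FittStrict
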